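import Groth.Agent.PBC.Model
import Groth.Agent.QCoh.ProperOver2
import Groth.Agent.QCoh.AnnIdeal
import Groth.Agent.QCoh.DevissageP
import Groth.Agent.AlgStLib.Noetherian

/-!
# Noetherian models of flat modules with proper support
-/

set_option autoImplicit false
set_option linter.style.haveILetI false
set_option backward.isDefEq.respectTransparency false
set_option backward.isDefEq.respectTransparency.types false

open CategoryTheory CategoryTheory.Limits AlgebraicGeometry Groth.Agent.MorLib Groth.Agent.MorLib.Desc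
  Groth.Agent.ConsPropLib

universe u

namespace Groth.Agent.GBC

open Groth.Agent

/-- A morphism of finite presentation to an affine scheme, with a flat module of finite presentation
whose support is proper over the base, comes from the same data over a noetherian affine scheme. -/
theorem exists_flat_supp_model {X S : Scheme.{u}} [IsAffine S] (f : X ⟶ S)
    [LocallyOfFinitePresentation f] [QuasiCompact f] [QuasiSeparated f] (G : X.Modules) (hG : CohB1.IsFP G)
    (hfl : FlatMod.IsFlatOver f G) (hsupp : ClSub.IsProperOver f (CohB1.support G)) :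
    ∃ (S₁ X₁ : Scheme.{u}) (ρ : S ⟶ S₁) (f₁ : X₁ ⟶ S₁) (q : X ⟶ X₁) (G₁ : X₁.Modules),
      IsNoetherian S₁ ∧ IsAffine S₁ ∧ LocallyOfFiniteType f₁ ∧ QuasiCompact f₁ ∧ IsPullback q f f₁ ρ ∧
        Coh.IsCoh G₁ ∧ FlatMod.IsFlatOver f₁ G₁ ∧ ClSub.IsProperOver f₁ (CohB1.support G₁) ∧
        Nonempty ((Scheme.Modules.pullback q).obj G₁ ≅ G) := by
  let A : CommRingCat.{u} := Γ(S, ⊤)
  let f' : X ⟶ Spec A := f ≫ S.isoSpec.hom
  haveI : LocallyOfFinitePresentation f' :=
    inferInstanceAs (LocallyOfFinitePresentation (f ≫ S.isoSpec.hom))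
  haveI : QuasiCompact f' := inferInstanceAs (QuasiCompact (f ≫ S.isoSpec.hom))
  haveI : QuasiSeparated f' := inferInstanceAs (QuasiSeparated (f ≫ S.isoSpec.hom))
  obtain ⟨i, X₂, u₂, q, hlfp, hqc, F₂, hsq, hF₂, ⟨θ⟩⟩ := S4867.result_aux f' G hG
  let D := NoethApprox.diagram A
  let c := NoethApprox.cone A
  have hc : IsLimit c := NoethApprox.isLimit A
  haveI : ∀ {a b : (Finset A)ᵒᵖ} (t : a ⟶ b), IsAffineHom (D.map t) := fun t =>
    NoethApprox.isAffineHom_map A t
  haveI : ∀ (a b : (Finset A)ᵒᵖ) (t : a ⟶ b), IsAffineHom (D.map t) := fun _ _ t => inferInstance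
  haveI : ∀ a, IsAffine (D.obj a) := fun a => NoethApprox.isAffine_obj A a
  haveI : ∀ a, IsNoetherian (D.obj a) := fun a => NoethApprox.isNoetherian_obj A a
  haveI : LocallyOfFinitePresentation u₂ := hlfp
  haveI : QuasiCompact u₂ := hqc
  haveI : IsLocallyNoetherian X₂ := LocallyOfFiniteType.isLocallyNoetherian u₂
  haveI : CompactSpace X₂ := QuasiCompact.compactSpace_of_compactSpace u₂
  haveI : QuasiSeparatedSpace X₂ := inferInstance
  haveI : QuasiSeparated u₂ := inferInstance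
  have hqc₂ : Coh.IsQCoh F₂ := (QCoh.isCoh_iff_isFP.2 hF₂).1
  haveI : Coh.IsQCoh F₂ := hqc₂
  have hft₂ : CohB1.IsFT F₂ := QCoh.isFT_of_isFP hF₂
  haveI : CompactSpace (D.obj i) := inferInstance
  -- flatness
  have hflat' : FlatMod.IsFlatOver f' ((Scheme.Modules.pullback q).obj F₂) := fun x =>
    GrFlat5.isFlatOverAt_of_iso f' ((Scheme.Modules.pullbackId X).app G ≪≫ θ) x
      ((FibFlatMod.flatAt_openImmersion (f := f) (f' := f') (jX := 𝟙 X) (jY := S.isoSpec.inv)
        (by simp [f']) G x).2 (hfl x))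
  haveI : LocallyOfFinitePresentation (u₂ ≫ 𝟙 (D.obj i)) := by rwa [Category.comp_id]
  haveI : QuasiCompact (u₂ ≫ 𝟙 (D.obj i)) := by rwa [Category.comp_id]
  haveI : QuasiSeparated (u₂ ≫ 𝟙 (D.obj i)) := by rwa [Category.comp_id]
  have hY : IsPullback (c.π.app i) (𝟙 c.pt) (𝟙 (D.obj i)) (c.π.app i) :=
    haveI h1 : IsIso (𝟙 c.pt) := IsIso.id _
    haveI h2 : IsIso (𝟙 (D.obj i)) := IsIso.id _
    @IsPullback.of_vert_isIso _ _ _ _ _ _ _ _ _ _ h1 h2 ⟨(Category.comp_id _).trans (Category.id_comp _).symm⟩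
  obtain ⟨j, φj, Xj, Yj, fj, gj, pY, pX, hYj, hXj, hj⟩ :=
    (S4849.result D c hc i u₂ (𝟙 (D.obj i)) F₂ hF₂ f' (𝟙 c.pt) (c.π.app i) q
      hY hsq).1 hflat'
  -- the support
  obtain ⟨Z₂, ι₂, G₂, hι, hrange, -⟩ := QCoh.exists_closed_model hqc₂ hft₂
  haveI := hι
  have hlfpZ : LocallyOfFinitePresentation (ι₂ ≫ u₂) :=
    AlgStLib.locallyOfFinitePresentation_of_isLocallyNoetherian _ inferInstance
  haveI := hlfpZ
  haveI : CompactSpace Z₂ := ι₂.isClosedEmbedding.compactSpace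
  haveI : IsLocallyNoetherian Z₂ := LocallyOfFiniteType.isLocallyNoetherian (ι₂ ≫ u₂)
  haveI : QuasiSeparatedSpace Z₂ := inferInstance
  let P := pullback q ι₂
  let jP : P ⟶ X := pullback.fst q ι₂
  have hsqP : IsPullback (pullback.snd q ι₂) (jP ≫ f') (ι₂ ≫ u₂) (c.π.app i) :=
    IsPullback.paste_vert (IsPullback.of_hasPullback q ι₂).flip hsq
  have hrP : Set.range jP = CohB1.support G := by
    rw [Scheme.Pullback.range_fst, hrange, ← QCoh.support_pullback q hqc₂ hft₂]
    exact QCoh.support_iso θ.symm (QCoh.isQCoh_pullback q hqc₂)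
  have hproper : IsProper (jP ≫ f') := by
    haveI : IsProper (jP ≫ f) := QCoh.isProper_comp_of_isProperOver jP hsupp hrP.le
    rw [← Category.assoc]
    infer_instance
  have hp : IsProper (pullback.snd (ι₂ ≫ u₂) (c.π.app i)) :=
    of_two @IsProper hsqP (IsPullback.of_hasPullback _ _) hproper
  obtain ⟨k, φk, hk⟩ := ConsPropLib.core_isProper _ D c hc (fun a b t => inferInstance) i
    inferInstance (ι₂ ≫ u₂) inferInstance inferInstance hlfpZ hp
  obtain ⟨n, α, β, hαβ⟩ := IsCofiltered.cospan φj φk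
  let γ : n ⟶ i := α ≫ φj
  haveI : IsIso gj := hYj.isIso_snd_of_isIso
  have hpY : pY = gj ≫ D.map φj := (Category.comp_id pY).symm.trans hYj.w
  let X₁ := pullback u₂ (D.map γ)
  let p₁ : X₁ ⟶ X₂ := pullback.fst u₂ (D.map γ)
  let f₁ : X₁ ⟶ D.obj n := pullback.snd u₂ (D.map γ)
  let j₁ := pullback.fst p₁ ι₂
  have hsq₁ : IsPullback (pullback.snd p₁ ι₂) (j₁ ≫ f₁) (ι₂ ≫ u₂) (D.map γ) :=
    IsPullback.paste_vert (IsPullback.of_hasPullback p₁ ι₂).flip (IsPullback.of_hasPullback u₂ (D.map γ))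
  haveI h1 : IsProper (j₁ ≫ f₁) := Desc.of_factor @IsProper hk
    (a := D.map β) (by rw [← D.map_comp, ← hαβ]) hsq₁
  have hsupp₁ : ClSub.IsProperOver f₁ (CohB1.support ((Scheme.Modules.pullback p₁).obj F₂)) := by
    rw [QCoh.support_pullback p₁ hqc₂ hft₂, ← hrange, ← Scheme.Pullback.range_fst]
    exact (QCoh.isProperOver_iff (f := f₁) j₁).2 h1
  have h2 : FlatMod.IsFlatOver f₁ ((Scheme.Modules.pullback p₁).obj F₂) :=
    PBC.isFlatOver_of_stage u₂ F₂ (D.map γ) fj pY pX hXj (D.map α ≫ inv gj)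
      (by rw [hpY, Category.assoc, IsIso.inv_hom_id_assoc, ← D.map_comp]) hj
  let qn : X ⟶ X₁ :=
    pullback.lift q (f' ≫ c.π.app n) (by rw [Category.assoc]; exact hsq.w.trans (congrArg (f' ≫ ·) (c.w γ).symm))
  have hn : IsPullback qn f' f₁ (c.π.app n) :=
    IsPullback.of_right (by rw [pullback.lift_fst]; exact (c.w γ).symm ▸ hsq) (pullback.lift_snd _ _ _)
      (IsPullback.of_hasPullback _ _)
  haveI : IsLocallyNoetherian X₁ := LocallyOfFiniteType.isLocallyNoetherian f₁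
  exact ⟨D.obj n, X₁, S.isoSpec.hom ≫ c.π.app n, f₁, qn, _, inferInstance,
    inferInstance, inferInstance, inferInstance, hn.of_iso (Iso.refl _) (Iso.refl _) S.isoSpec.symm (Iso.refl _) (by simp)
      (by simp [f']) (by simp) (by simp),
    QCoh.isCoh_iff_isFP.2 (ModStLib.isFP_pullback _ hF₂), h2, hsupp₁,
    ⟨(Scheme.Modules.pullbackComp qn _).app F₂ ≪≫
      (Scheme.Modules.pullbackCongr (pullback.lift_fst _ _ _)).app F₂ ≪≫ θ.symm⟩⟩

end Groth.Agent.GBC
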