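import Groth.Agent.GBC.Main
import Groth.Agent.GBC.Model
import Groth.Agent.RBC.Proper
import Groth.Agent.PushAmp.Coh
import Groth.Agent.PushAmp.TensorBound

/-!
# Derived direct images of `E ⊗^L G` for flat modules with proper support
-/

set_option autoImplicit false
set_option linter.style.haveILetI false
set_option backward.isDefEq.respectTransparency false
set_option backward.isDefEq.respectTransparency.types false

universe u

open CategoryTheory CategoryTheory.Limits AlgebraicGeometry Pretriangulated TopologicalSpace ZeroObject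

attribute [local instance] HasDerivedCategory.standard

noncomputable section

namespace Groth.Agent.GBC

open Groth.Agent.KFlatLib Groth.Agent.DQGen Groth.Agent.RBC

attribute [local instance] hasLpull hasRpush_scheme hasLTensorMod hasLTensorCx

variable {X S : Scheme.{u}}

/-- `- ⊗^L N` only depends on `N` up to isomorphism. -/
lemma nonempty_ltensorMod_congr {N N' : X.Modules} (e : N ≅ N') :
    Nonempty (DCoh.LTensorMod N ≅ DCoh.LTensorMod N') := by
  obtain ⟨a⟩ := nonempty_ltensorMod_iso_cx N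
  obtain ⟨a'⟩ := nonempty_ltensorMod_iso_cx N'
  obtain ⟨b⟩ := nonempty_LTensorCx_congr_D (DerivedCategory.Q.mapIso
    ((HomologicalComplex.single X.Modules (ComplexShape.up ℤ) 0).mapIso e))
  exact ⟨a ≪≫ b ≪≫ a'.symm⟩

lemma isFP_restrictFunctor {U : Scheme.{u}} (j : U ⟶ X) [IsOpenImmersion j] {G : X.Modules}
    (hG : CohB1.IsFP G) : CohB1.IsFP ((Scheme.Modules.restrictFunctor j).obj G) :=
  (SheafOfModules.isFinitePresentation (R := U.ringCatSheaf)).prop_of_iso
    ((Scheme.Modules.restrictFunctorIsoPullback j).app G).symm (ModStLib.isFP_pullback j hG)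

lemma isZero_ltensorMod_zero (N : X.Modules) : IsZero ((DCoh.LTensorMod N).obj (0 : DCoh.D X)) := by
  let K := (DCoh.LTensorMod N).obj (0 : DCoh.D X)
  have hz : ∀ i, IsZero (DCoh.HD K i) := fun i => by
    haveI := isHomological_ltensorMod_comp N (DerivedCategory.homologyFunctor X.Modules i)
    exact (DCoh.LTensorMod N ⋙ DerivedCategory.homologyFunctor X.Modules i).map_isZero (isZero_zero _)
  haveI : K.IsLE (-1) := (DerivedCategory.isLE_iff _ _).2 fun i _ => hz i
  haveI : K.IsGE 0 := (DerivedCategory.isGE_iff _ _).2 fun i _ => hz i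
  exact DerivedCategory.TStructure.t.isZero K (-1) 0 (by omega)

section

variable (f : X ⟶ S) (N : X.Modules)

/-- Perfect objects `K` with perfect `Rf_*(K ⊗^L N)`. -/
def TensorPushPerfect : ObjectProperty (DCoh.D X) := fun K =>
  DCoh.IsPerfect K ∧ DCoh.IsPerfect ((DCoh.Rpush f).obj ((DCoh.LTensorMod N).obj K))

lemma TensorPushPerfect.iso {A B : DCoh.D X} (e : A ≅ B) :
    DCoh.IsPerfect ((DCoh.Rpush f).obj ((DCoh.LTensorMod N).obj A)) →
      DCoh.IsPerfect ((DCoh.Rpush f).obj ((DCoh.LTensorMod N).obj B)) :=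
  isPerfect_of_iso ((DCoh.Rpush f).mapIso ((DCoh.LTensorMod N).mapIso e))

instance : (TensorPushPerfect f N).IsClosedUnderIsomorphisms where
  of_iso e h := ⟨isPerfect_of_iso e h.1, TensorPushPerfect.iso f N e h.2⟩

/-- The three images of a triangle. -/
lemma locSP_images (T : Triangle (DCoh.D X)) (hT : T ∈ distTriang (DCoh.D X)) :
    ∃ T' : Triangle (DCoh.D S), T' ∈ distTriang (DCoh.D S) ∧
      Nonempty (T'.obj₁ ≅ (DCoh.Rpush f).obj ((DCoh.LTensorMod N).obj T.obj₂)) ∧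
      Nonempty (T'.obj₂ ≅ (DCoh.Rpush f).obj ((DCoh.LTensorMod N).obj T.obj₃)) ∧
      Nonempty (T'.obj₃ ≅ (DCoh.Rpush f).obj ((DCoh.LTensorMod N).obj (T.obj₁⟦(1 : ℤ)⟧))) := by
  obtain ⟨μ⟩ := nonempty_ltensorMod_iso_cx N
  obtain ⟨T', hT', ⟨e₁⟩, ⟨e₂⟩, ⟨e₃⟩⟩ := PushAmp.exists_ltensor_triangle _ T hT
  obtain ⟨c, hc⟩ := exists_rpush_triangle f T' hT'
  exact ⟨_, hc, ⟨(DCoh.Rpush f).mapIso (e₁ ≪≫ (μ.app _).symm)⟩, ⟨(DCoh.Rpush f).mapIso (e₂ ≪≫ (μ.app _).symm)⟩,
    ⟨(DCoh.Rpush f).mapIso (e₃ ≪≫ (μ.app _).symm)⟩⟩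

lemma isPerfect_zero_image :
    DCoh.IsPerfect ((DCoh.Rpush f).obj ((DCoh.LTensorMod N).obj (0 : DCoh.D X))) :=
  isPerfect_of_isZero (pp_of_isZero f (isZero_ltensorMod_zero N))

lemma isPerfect_image_shift_one (K : DCoh.D X) :
    DCoh.IsPerfect ((DCoh.Rpush f).obj ((DCoh.LTensorMod N).obj (K⟦(1 : ℤ)⟧))) ↔
      DCoh.IsPerfect ((DCoh.Rpush f).obj ((DCoh.LTensorMod N).obj K)) := by
  obtain ⟨T', hT', ⟨e₁⟩, ⟨e₂⟩, ⟨e₃⟩⟩ := locSP_images f N _ (contractible_distinguished K)
  have h0 := isPerfect_of_iso e₂.symm (isPerfect_zero_image f N)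
  simp only [isPerfect_iff] at h0
  refine ⟨fun h => isPerfect_of_iso e₁ ((isPerfect_iff _).2 ?_), fun h => isPerfect_of_iso e₃ ((isPerfect_iff _).2 ?_)⟩
  · exact (locSP_two_of_three _ hT').2.2 h0 ((isPerfect_iff _).1 (isPerfect_of_iso e₃.symm h))
  · exact (locSP_two_of_three _ hT').1 ((isPerfect_iff _).1 (isPerfect_of_iso e₁.symm h)) h0

lemma isPerfect_image_shift (n : ℤ) : ∀ (K : DCoh.D X),
    DCoh.IsPerfect ((DCoh.Rpush f).obj ((DCoh.LTensorMod N).obj (K⟦n⟧))) ↔
      DCoh.IsPerfect ((DCoh.Rpush f).obj ((DCoh.LTensorMod N).obj K)) := by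
  have iso : ∀ {A B : DCoh.D X}, (A ≅ B) →
      (DCoh.IsPerfect ((DCoh.Rpush f).obj ((DCoh.LTensorMod N).obj A)) ↔
        DCoh.IsPerfect ((DCoh.Rpush f).obj ((DCoh.LTensorMod N).obj B))) := fun e =>
    ⟨TensorPushPerfect.iso f N e, TensorPushPerfect.iso f N e.symm⟩
  induction n using Int.induction_on with
  | zero => exact fun K => iso ((shiftFunctorZero _ ℤ).app K)
  | succ k ih =>
    intro K
    exact (iso ((shiftFunctorAdd _ (k : ℤ) 1).app K)).trans ((isPerfect_image_shift_one f N _).trans (ih K))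
  | pred k ih =>
    intro K
    exact (isPerfect_image_shift_one f N _).symm.trans
      ((iso ((shiftFunctorAdd' _ (-(k : ℤ) - 1) 1 (-(k : ℤ)) (by omega)).app K).symm).trans (ih K))

instance : (TensorPushPerfect f N).IsTriangulated where
  exists_zero := ⟨0, isZero_zero _, isPerfect_of_isZero (isZero_zero _), isPerfect_zero_image f N⟩
  isStableUnderShiftBy n := ⟨fun K hK => ⟨(isPerfect_iff _).2 (((isPerfect_iff _).1 hK.1).shift n),
    (isPerfect_image_shift f N n K).2 hK.2⟩⟩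
  toIsTriangulatedClosed₂ := .mk' fun T hT h₁ h₃ => by
    obtain ⟨T', hT', ⟨e₁⟩, ⟨e₂⟩, ⟨e₃⟩⟩ := locSP_images f N T hT
    exact ⟨(isPerfect_iff _).2 ((locSP_two_of_three T hT).2.1 ((isPerfect_iff _).1 h₁.1)
      ((isPerfect_iff _).1 h₃.1)), isPerfect_of_iso e₁ ((isPerfect_iff _).2 ((locSP_two_of_three _ hT').2.2
      ((isPerfect_iff _).1 (isPerfect_of_iso e₂.symm h₃.2))
      ((isPerfect_iff _).1 (isPerfect_of_iso e₃.symm ((isPerfect_image_shift_one f N _).2 h₁.2)))))⟩

end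

/-- Over an affine base. -/
theorem isPerfect_rpush_tensor_affine [IsAffine S] (f : X ⟶ S) [LocallyOfFinitePresentation f]
    [QuasiCompact f] [QuasiSeparated f] (G : X.Modules) (hG : CohB1.IsFP G)
    (hfl : FlatMod.IsFlatOver f G) (hsupp : ClSub.IsProperOver f (CohB1.support G))
    {K : DCoh.D X} (hK : DCoh.IsPerfect K) :
    DCoh.IsPerfect ((DCoh.Rpush f).obj ((DCoh.LTensorMod G).obj K)) := by
  obtain ⟨S₁, X₁, ρ, f₁, q, G₁, hN, hA, hlft, hqc, H, hG₁, hfl₁, hsupp₁, ⟨θ⟩⟩ :=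
    exists_flat_supp_model f G hG hfl hsupp
  haveI := hN
  haveI := hA
  haveI := hlft
  haveI := hqc
  haveI : IsLocallyNoetherian X₁ := LocallyOfFiniteType.isLocallyNoetherian f₁
  haveI : QuasiSeparated f₁ := inferInstance
  haveI : CompactSpace X := QuasiCompact.compactSpace_of_compactSpace f
  haveI : QuasiSeparatedSpace X := quasiSeparatedSpace_of_quasiSeparated f
  haveI : CompactSpace X₁ := QuasiCompact.compactSpace_of_compactSpace f₁
  haveI : QuasiSeparatedSpace X₁ := quasiSeparatedSpace_of_quasiSeparated f₁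
  haveI : IsAffineHom ρ := inferInstance
  haveI : IsAffineHom q := MorphismProperty.of_isPullback H.flip inferInstance
  obtain ⟨P, hP, hgen⟩ := exists_generator (X := X₁) (W := ⊥) (by simp)
  have hPG : TensorPushPerfect f G ((DCoh.Lpull q).obj P) := by
    refine ⟨isPerfect_lpull q hP.1, ?_⟩
    obtain ⟨e⟩ := nonempty_gb_iso H hG₁.1 hfl₁ P (isQCohD_of_isPerfect hP.1)
    obtain ⟨c⟩ := nonempty_ltensorMod_congr θ
    exact isPerfect_of_iso (e ≪≫ (DCoh.Rpush f).mapIso (c.app _))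
      (isPerfect_lpull ρ (PushAmp.isPerfect_rpush_ltensorMod f₁ hP.1 G₁ hG₁ hfl₁ hsupp₁))
  refine (perfect_of_detector (TensorPushPerfect f G) (fun _ h => h.1) (fun i r hir h => ⟨?_, ?_⟩) _ hPG
    (fun E hE h => ?_) hK).2
  · exact isPerfect_of_retract i r hir h.1
  · exact isPerfect_of_retract ((DCoh.Rpush f).map ((DCoh.LTensorMod G).map i))
      ((DCoh.Rpush f).map ((DCoh.LTensorMod G).map r))
      (by rw [← Functor.map_comp, ← Functor.map_comp, hir, CategoryTheory.Functor.map_id,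
        CategoryTheory.Functor.map_id]) h.2
  obtain ⟨aq⟩ := nonempty_lpull_rpush_adj q
  refine isZero_of_rpush_isZero q hE ((hgen _ ((pq_bot_iff _).2 (isQCohD_rpush q hE))).2 fun n φ => ?_)
  obtain ⟨e⟩ := nonempty_lpull_shift q P n
  apply (aq.homEquiv _ _).symm.injective
  rw [← cancel_epi e.inv, h n (e.inv ≫ (aq.homEquiv _ _).symm φ), h n (e.inv ≫ _)]

/-- `Rf_*(E ⊗^L G)` is perfect. -/
theorem isPerfect_rpush_tensor (f : X ⟶ S) [LocallyOfFinitePresentation f] [QuasiCompact f] [QuasiSeparated f]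
    (G : X.Modules) (hG : CohB1.IsFP G) (hfl : FlatMod.IsFlatOver f G)
    (hsupp : ClSub.IsProperOver f (CohB1.support G)) {K : DCoh.D X} (hK : DCoh.IsPerfect K) :
    DCoh.IsPerfect ((DCoh.Rpush f).obj ((DCoh.LTensorMod G).obj K)) := by
  refine (isPerfect_iff _).2 (LocSP.of_local fun s => ?_)
  obtain ⟨_, ⟨(U : S.Opens), hU, rfl⟩, hsU, -⟩ :=
    S.isBasis_affineOpens.exists_subset_of_mem_open (Set.mem_univ s) isOpen_univ
  refine ⟨_, U.ι, inferInstance, ⟨⟨s, hsU⟩, rfl⟩, ?_⟩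
  haveI : IsAffine (U : Scheme.{u}) := hU
  haveI : LocallyOfFinitePresentation (f ∣_ U) :=
    IsZariskiLocalAtTarget.restrict ‹LocallyOfFinitePresentation f› U
  let j := (f ⁻¹ᵁ U).ι
  obtain ⟨e⟩ := nonempty_rpush_restrictD_iso f U
  obtain ⟨μ⟩ := nonempty_ltensorMod_iso_cx G
  obtain ⟨ν⟩ := nonempty_ltensorMod_iso_cx ((Scheme.Modules.restrictFunctor j).obj G)
  let R := repK K
  have hR : DCoh.IsKFlat R := isKFlat_repK K
  haveI := isIso_ltensorModComparison G hR
  haveI := isIso_ltensorModComparison ((Scheme.Modules.restrictFunctor j).obj G) (isKFlat_restrict j hR)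
  let eT : (rho j).obj ((DCoh.LTensorMod G).obj K) ≅
      (DCoh.LTensorMod ((Scheme.Modules.restrictFunctor j).obj G)).obj ((rho j).obj K) :=
    (rho j).mapIso ((DCoh.LTensorMod G).mapIso (repKIso K).symm ≪≫ asIso ((ltensorModComparison G).app R)) ≪≫
      (rhoQ j).app _ ≪≫ DerivedCategory.Q.mapIso (rCxTensorIso j G R) ≪≫
      (asIso ((ltensorModComparison ((Scheme.Modules.restrictFunctor j).obj G)).app ((rCx j).obj R))).symm ≪≫
      (DCoh.LTensorMod _).mapIso (((rhoQ j).app R).symm ≪≫ (rho j).mapIso (repKIso K))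
  have hsupp' : ClSub.IsProperOver (f ∣_ U) (CohB1.support ((Scheme.Modules.restrictFunctor j).obj G)) := by
    have hq := QCoh.isQCoh_of_isFP hG
    rw [QCoh.support_iso ((Scheme.Modules.restrictFunctorIsoPullback j).app G) (QCoh.isQCoh_restrict j hq),
      QCoh.support_pullback j hq (QCoh.isFT_of_isFP hG)]
    exact QCoh.IsProperOver.baseChange (isPullback_morphismRestrict f U).flip hsupp
  exact (isPerfect_iff _).1 (isPerfect_of_iso ((DCoh.Rpush (f ∣_ U)).mapIso eT.symm ≪≫ (e.app _).symm)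
    (isPerfect_rpush_tensor_affine (f ∣_ U) _
      (isFP_restrictFunctor j hG)
      (PushAmp.isFlatOver_morphismRestrict f U hfl) hsupp' (isPerfect_rho j hK)))

end Groth.Agent.GBC
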