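import Groth.Agent.GBC.Lift
import Groth.Agent.KFlatLib.Scheme.ProjFormula

/-!
# Base change for `E ⊗^L G` with `G` flat over the base: the formal part
-/

set_option autoImplicit false
set_option linter.style.haveILetI false
set_option backward.isDefEq.respectTransparency false
set_option backward.isDefEq.respectTransparency.types false
set_option maxHeartbeats 800000
set_option synthInstance.maxHeartbeats 400000

universe u

open CategoryTheory CategoryTheory.Limits AlgebraicGeometry Pretriangulated TopologicalSpace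

attribute [local instance] HasDerivedCategory.standard

noncomputable section

namespace Groth.Agent.GBC

open Groth.Agent.KFlatLib Groth.Agent.DQGen Groth.Agent.RBC

attribute [local instance] hasLpull hasRpush_scheme hasLTensorMod hasLTensorCx

variable {X S X' S' : Scheme.{u}}

/-- The composite `Lg^*Rf_*C ⟶ Rf'_*Lg'^*C ⟶ Rf'_*g'^*C` is invertible. -/
def GBc (f : X ⟶ S) (g : S' ⟶ S) (f' : X' ⟶ S') (g' : X' ⟶ X) (C : CochainComplex X.Modules ℤ) : Prop :=
  ∀ (L : DCoh.D S ⥤ DCoh.D X) (R : DCoh.D X ⥤ DCoh.D S) (L' : DCoh.D S' ⥤ DCoh.D X')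
    (R' : DCoh.D X' ⥤ DCoh.D S') (G : DCoh.D S ⥤ DCoh.D S')
    (_ : L ≅ DCoh.Lpull f) (_ : L' ≅ DCoh.Lpull f') (_ : G ≅ DCoh.Lpull g)
    (a : L ⊣ R) (a' : L' ⊣ R') (α : G ⋙ L' ≅ L ⋙ DCoh.Lpull g'),
    IsIso ((bcM a a' α.hom).app (DerivedCategory.Q.obj C) ≫ R'.map ((lpullComparison g').app C))

/-- The composite `Lg^*Rf_*(E ⊗ G) ⟶ Rf'_*(Lg'^*E ⊗ g'^*G)` is invertible. -/
def GB (f : X ⟶ S) (g : S' ⟶ S) (f' : X' ⟶ S') (g' : X' ⟶ X) (M : X.Modules) (E : DCoh.D X) : Prop :=
  ∀ (L : DCoh.D S ⥤ DCoh.D X) (R : DCoh.D X ⥤ DCoh.D S) (L' : DCoh.D S' ⥤ DCoh.D X')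
    (R' : DCoh.D X' ⥤ DCoh.D S') (G : DCoh.D S ⥤ DCoh.D S')
    (_ : L ≅ DCoh.Lpull f) (_ : L' ≅ DCoh.Lpull f') (_ : G ≅ DCoh.Lpull g)
    (a : L ⊣ R) (a' : L' ⊣ R') (α : G ⋙ L' ≅ L ⋙ DCoh.Lpull g'),
    IsIso ((bcM a a' α.hom).app ((DCoh.LTensorMod M).obj E) ≫ R'.map ((mu g' M).app E))

/-- `GB` at all shifts. -/
def GBs (f : X ⟶ S) (g : S' ⟶ S) (f' : X' ⟶ S') (g' : X' ⟶ X) (M : X.Modules) (E : DCoh.D X) : Prop :=
  ∀ n : ℤ, GB f g f' g' M (E⟦n⟧)

variable {f : X ⟶ S} {g : S' ⟶ S} {f' : X' ⟶ S'} {g' : X' ⟶ X} {M : X.Modules}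

/-- `GBc` only depends on the complex up to isomorphism. -/
lemma GBc.of_iso {C D : CochainComplex X.Modules ℤ} (e : C ≅ D) (h : GBc f g f' g' C) :
    GBc f g f' g' D := by
  intro L R L' R' G eL eL' eG a a' α
  have hC := h L R L' R' G eL eL' eG a a' α
  let Θ : DerivedCategory.Q ⋙ R ⋙ G ⟶ pullCx g' ⋙ DerivedCategory.Q ⋙ R' :=
    { app := fun C => (bcM a a' α.hom).app (DerivedCategory.Q.obj C) ≫ R'.map ((lpullComparison g').app C)
      naturality := fun C D φ => by
        have n₁ := (bcM a a' α.hom).naturality (DerivedCategory.Q.map φ)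
        have n₂ := (lpullComparison g').naturality φ
        simp only [Functor.comp_map] at n₁ n₂ ⊢
        erw [reassoc_of% n₁, ← R'.map_comp, n₂, R'.map_comp]
        simp only [Category.assoc] }
  exact (NatTrans.isIso_app_iff_of_iso Θ e).1 hC

lemma GB.of_iso {E F : DCoh.D X} (e : E ≅ F) (h : GB f g f' g' M E) : GB f g f' g' M F := by
  intro L R L' R' G eL eL' eG a a' α
  exact (NatTrans.isIso_app_iff_of_iso (Functor.whiskerLeft (DCoh.LTensorMod M) (bcM a a' α.hom) ≫
    Functor.whiskerRight (mu g' M) R') e).1 (h L R L' R' G eL eL' eG a a' α)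

lemma GBs.of_iso {E F : DCoh.D X} (e : E ≅ F) (h : GBs f g f' g' M E) : GBs f g f' g' M F :=
  fun n => (h n).of_iso ((shiftFunctor _ n).mapIso e)

lemma GBs.gb {E : DCoh.D X} (h : GBs f g f' g' M E) : GB f g f' g' M E :=
  (h 0).of_iso ((shiftFunctorZero _ ℤ).app E)

lemma GBs.shift {E : DCoh.D X} (h : GBs f g f' g' M E) (m : ℤ) : GBs f g f' g' M (E⟦m⟧) :=
  fun n => (h (m + n)).of_iso ((shiftFunctorAdd _ m n).app E)

/-- On a K-flat complex `GB` is `GBc` of the tensor product. -/
theorem gb_iff {K : CochainComplex X.Modules ℤ} (hK : DCoh.IsKFlat K) :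
    GB f g f' g' M (DerivedCategory.Q.obj K) ↔ GBc f g f' g' ((tensorModCx M).obj K) := by
  haveI := isIso_ltensorModComparison M hK
  haveI := isIso_kLiftε (kRespects_tensorPull g' M) hK
  refine forall_congr' fun L => forall_congr' fun R => forall_congr' fun L' => forall_congr' fun R' =>
    forall_congr' fun G => forall_congr' fun _ => forall_congr' fun _ => forall_congr' fun _ =>
    forall_congr' fun a => forall_congr' fun a' => forall_congr' fun α => ?_
  have n := (bcM a a' α.hom).naturality ((ltensorModComparison M).app K)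
  simp only [Functor.comp_map] at n
  have h : ((bcM a a' α.hom).app ((DCoh.LTensorMod M).obj (DerivedCategory.Q.obj K)) ≫
      R'.map ((mu g' M).app (DerivedCategory.Q.obj K))) ≫
        R'.map ((kLiftε (kRespects_tensorPull g' M)).app K) =
      G.map (R.map ((ltensorModComparison M).app K)) ≫
        ((bcM a a' α.hom).app (DerivedCategory.Q.obj ((tensorModCx M).obj K)) ≫
          R'.map ((lpullComparison g').app ((tensorModCx M).obj K))) := by
    rw [Category.assoc, ← R'.map_comp, mu_spec, R'.map_comp]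
    erw [reassoc_of% n]
  rw [← isIso_comp_right_iff _ (R'.map ((kLiftε (kRespects_tensorPull g' M)).app K)), h,
    isIso_comp_left_iff]

/-- `- ⊗^L M` as the functor of K-flat resolutions. -/
lemma nonempty_kLift_iso (N : X.Modules) :
    Nonempty (kLift (G := tensorModCx N)
      (fun _ _ α hα hP hQ => haveI := hα; quasiIso_tensorRightMod N α hP hQ) ≅ DCoh.LTensorMod N) := by
  obtain ⟨μ, -⟩ := exists_iso_lift_flat (F₁ := kLift (G := tensorModCx N)
      (fun _ _ α hα hP hQ => haveI := hα; quasiIso_tensorRightMod N α hP hQ))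
    (F₂ := DCoh.LTensorMod N) (H := tensorModCx N ⋙ DerivedCategory.Q) (kLiftε _)
    (ltensorModComparison N) (fun C hC => isIso_kLiftε _ hC) fun C hC => isIso_ltensorModComparison N hC
  exact ⟨μ⟩

/-- `- ⊗^L M` followed by a homological functor is homological. -/
lemma isHomological_ltensorMod_comp (N : X.Modules) {A : Type*} [Category A] [Abelian A]
    (H : DCoh.D X ⥤ A) [H.IsHomological] : (DCoh.LTensorMod N ⋙ H).IsHomological := by
  obtain ⟨μ⟩ := nonempty_kLift_iso N
  haveI := isHomological_kLift_comp (G := tensorModCx N)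
    (fun _ _ α hα hP hQ => haveI := hα; quasiIso_tensorRightMod N α hP hQ)
    (fun T hT => HomologicalComplex.shortExact_of_degreewise_shortExact _
      fun n => ((hT n).some.map (DCoh.tensorRightMod N)).shortExact) H
  exact Functor.IsHomological.of_iso (Functor.isoWhiskerRight μ H)

/-- The target functor followed by a homological functor is homological. -/
lemma isHomological_pullTensorD_comp {A : Type*} [Category A] [Abelian A]
    (H : DCoh.D X' ⥤ A) [H.IsHomological] : (pullTensorD g' M ⋙ H).IsHomological :=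
  isHomological_kLift_comp (kRespects_tensorPull g' M)
    (fun T hT => HomologicalComplex.shortExact_of_degreewise_shortExact _
      fun n => ((hT n).some.map (DCoh.tensorRightMod M ⋙ Scheme.Modules.pullback g')).shortExact) H

/-- The third vertex of a triangle. -/
lemma GBs.obj₃ (T : Triangle (DCoh.D X)) (hT : T ∈ distTriang (DCoh.D X))
    (h₁ : GBs f g f' g' M T.obj₁) (h₂ : GBs f g f' g' M T.obj₂) : GBs f g f' g' M T.obj₃ := by
  intro n L R L' R' G eL eL' eG a a' α
  obtain ⟨eR⟩ := nonempty_right_iso eL a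
  obtain ⟨eR'⟩ := nonempty_right_iso eL' a'
  refine (DerivedCategory.isIso_iff _ _).2 fun i => ?_
  let H := DerivedCategory.homologyFunctor S'.Modules i
  haveI := isHomological_lpull_comp g H
  haveI := isHomological_rpush_comp f (DCoh.Lpull g ⋙ H)
  haveI h₁' : ((R ⋙ G) ⋙ H).IsHomological :=
    Functor.IsHomological.of_iso (F₁ := DCoh.Rpush f ⋙ DCoh.Lpull g ⋙ H)
      (Functor.isoWhiskerRight eR.symm (DCoh.Lpull g ⋙ H) ≪≫
        Functor.isoWhiskerLeft R (Functor.isoWhiskerRight eG.symm H) ≪≫ (Functor.associator _ _ _).symm)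
  haveI : ((DCoh.LTensorMod M ⋙ R ⋙ G) ⋙ H).IsHomological :=
    haveI := isHomological_ltensorMod_comp M ((R ⋙ G) ⋙ H)
    Functor.IsHomological.of_iso (F₁ := DCoh.LTensorMod M ⋙ (R ⋙ G) ⋙ H) (Iso.refl _)
  haveI := isHomological_rpush_comp f' H
  haveI h₂' : (R' ⋙ H).IsHomological :=
    Functor.IsHomological.of_iso (F₁ := DCoh.Rpush f' ⋙ H) (Functor.isoWhiskerRight eR'.symm H)
  haveI : ((pullTensorD g' M ⋙ R') ⋙ H).IsHomological :=
    haveI := isHomological_pullTensorD_comp (g' := g') (M := M) (R' ⋙ H)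
    Functor.IsHomological.of_iso (F₁ := pullTensorD g' M ⋙ R' ⋙ H) (Iso.refl _)
  exact isIso_app_shift_obj₃ (Functor.whiskerRight (Functor.whiskerLeft (DCoh.LTensorMod M) (bcM a a' α.hom) ≫
      Functor.whiskerRight (mu g' M) R' : DCoh.LTensorMod M ⋙ R ⋙ G ⟶ pullTensorD g' M ⋙ R') H) T hT
    (fun m => (DerivedCategory.isIso_iff _ _).1 (h₁ m L R L' R' G eL eL' eG a a' α) i)
    (fun m => (DerivedCategory.isIso_iff _ _).1 (h₂ m L R L' R' G eL eL' eG a a' α) i) n

lemma GBs.obj₁ (T : Triangle (DCoh.D X)) (hT : T ∈ distTriang (DCoh.D X))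
    (h₂ : GBs f g f' g' M T.obj₂) (h₃ : GBs f g f' g' M T.obj₃) : GBs f g f' g' M T.obj₁ :=
  ((GBs.obj₃ _ (rot_of_distTriang _ hT) h₂ h₃).shift (-1)).of_iso
    ((shiftFunctorCompIsoId (DCoh.D X) (1 : ℤ) (-1) (by omega)).app _)

lemma GBs.obj₂ (T : Triangle (DCoh.D X)) (hT : T ∈ distTriang (DCoh.D X))
    (h₁ : GBs f g f' g' M T.obj₁) (h₃ : GBs f g f' g' M T.obj₃) : GBs f g f' g' M T.obj₂ :=
  GBs.obj₃ _ (inv_rot_of_distTriang _ hT) (h₃.shift (-1)) h₁

lemma GBs.biprod {E F : DCoh.D X} (hE : GBs f g f' g' M E) (hF : GBs f g f' g' M F) :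
    GBs f g f' g' M (E ⊞ F) :=
  GBs.obj₂ _ (binaryBiproductTriangle_distinguished E F) hE hF

/-- `- ⊗^L M` through the complex concentrated in degree `0`. -/
lemma nonempty_ltensorMod_iso_cx (N : X.Modules) :
    Nonempty (DCoh.LTensorMod N ≅
      DCoh.LTensorCx ((HomologicalComplex.single X.Modules (ComplexShape.up ℤ) 0).obj N)) := by
  let F := (HomologicalComplex.single X.Modules (ComplexShape.up ℤ) 0).obj N
  let e : DCoh.tensorCx.flip.obj F ≅ tensorModCx N :=
    singleIso DCoh.tensorBi N ≪≫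
      NatIso.mapHomologicalComplex (Exactness.flipTensorIso N) (ComplexShape.up ℤ)
  obtain ⟨μ, -⟩ := exists_iso_lift_flat (H := DCoh.tensorCxQ F)
    (ltensorModComparison N ≫ Functor.whiskerRight e.inv DerivedCategory.Q)
    ((DCoh.tensorCxQ F).totalLeftDerivedCounit DerivedCategory.Q (qisX X))
    (fun C hC => by
      haveI := isIso_ltensorModComparison N hC
      change IsIso (_ ≫ _)
      infer_instance)
    fun C hC => isIso_LTensorCx_counit F hC
  exact ⟨μ⟩

/-- A quasi-coherent module placed in one degree. -/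
lemma isQCohD_sD {N : X.Modules} (hN : Coh.IsQCoh N) (n : ℤ) :
    DCoh.IsQCohD ((DerivedCategory.singleFunctor X.Modules n).obj N) := fun i => by
  by_cases h : i = n
  · subst h
    exact KFlatLib.isQCoh_of_iso
      ((DerivedCategory.singleFunctorCompHomologyFunctorIso X.Modules i).app N).symm hN
  · rcases lt_or_gt_of_ne h with h | h
    · exact isQCoh_of_isZero (DerivedCategory.isZero_of_isGE _ n i h)
    · exact isQCoh_of_isZero (DerivedCategory.isZero_of_isLE _ n i h)

/-- `- ⊗^L M` preserves quasi-coherence of cohomology. -/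
lemma isQCohD_ltensorMod {N : X.Modules} (hN : Coh.IsQCoh N) {E : DCoh.D X} (hE : DCoh.IsQCohD E) :
    DCoh.IsQCohD ((DCoh.LTensorMod N).obj E) := by
  obtain ⟨μ⟩ := nonempty_ltensorMod_iso_cx N
  exact isQCohD_of_iso (μ.app E).symm (isQCohD_ltensor _
    (isQCohD_of_iso ((DerivedCategory.singleFunctorIsoCompQ X.Modules 0).app N)
      (isQCohD_sD hN 0)) hE)

/-- `Lg^*E ⊗ g^*M` has quasi-coherent cohomology. -/
lemma isQCohD_pullTensorD {N : X.Modules} (hN : Coh.IsQCoh N) {E : DCoh.D X} (hE : DCoh.IsQCohD E) :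
    DCoh.IsQCohD ((pullTensorD g' N).obj E) :=
  isQCohD_of_iso (nonempty_pullTensorD_iso g' N E).some.symm
    (isQCohD_ltensorMod (QCoh.isQCoh_pullback g' hN) (isQCohD_lpull g' hE))

/-- `GBs` passes to coproducts. -/
lemma GBs.sigma [QuasiCompact f] [QuasiSeparated f] [QuasiCompact f'] [QuasiSeparated f'] {J : Type u}
    (C : J → DCoh.D X) [HasCoproduct C] (hM : Coh.IsQCoh M) (hC : ∀ j, DCoh.IsQCohD (C j))
    (h : ∀ j, GBs f g f' g' M (C j)) : GBs f g f' g' M (∐ C) := by
  haveI : HasColimitsOfShape (Discrete J) (DCoh.D X) := TriCat.hasColimitsOfShape_derivedCategory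
  haveI : HasColimitsOfShape (Discrete J) (DCoh.D S) := TriCat.hasColimitsOfShape_derivedCategory
  haveI : HasColimitsOfShape (Discrete J) (DCoh.D X') := TriCat.hasColimitsOfShape_derivedCategory
  haveI : HasColimitsOfShape (Discrete J) (DCoh.D S') := TriCat.hasColimitsOfShape_derivedCategory
  intro n
  refine GB.of_iso (PreservesCoproduct.iso (shiftFunctor (DCoh.D X) n) C).symm ?_
  intro L R L' R' G eL eL' eG a a' α
  let C' := fun j => (C j)⟦n⟧
  have hC' : ∀ j, DCoh.IsQCohD (C' j) := fun j => isQCohD_shift (hC j) n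
  obtain ⟨eR⟩ := nonempty_right_iso eL a
  obtain ⟨eR'⟩ := nonempty_right_iso eL' a'
  obtain ⟨cg⟩ := nonempty_lpull_rpush_adj g
  haveI : PreservesColimitsOfShape (Discrete J) (DCoh.tensorRightMod M) :=
    preservesColimitsOfShape_of_natIso (Exactness.flipTensorIso M)
  haveI : PreservesColimitsOfShape (Discrete J) (Scheme.Modules.pullback g') :=
    haveI := (Scheme.Modules.pullbackPushforwardAdjunction g').leftAdjoint_preservesColimits.{u, u}
    inferInstance
  haveI : PreservesColimitsOfShape (Discrete J) (tensorModCx M) :=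
    ⟨fun {K} => ⟨fun {c} hc => ⟨HomologicalComplex.isColimitOfEval _ _ fun m =>
      isColimitOfPreserves (HomologicalComplex.eval X.Modules (ComplexShape.up ℤ) m ⋙
        DCoh.tensorRightMod M) hc⟩⟩⟩
  haveI : PreservesColimitsOfShape (Discrete J) (tensorModCx M ⋙ pullCx g') :=
    ⟨fun {K} => ⟨fun {c} hc => ⟨HomologicalComplex.isColimitOfEval _ _ fun m =>
      isColimitOfPreserves (HomologicalComplex.eval X.Modules (ComplexShape.up ℤ) m ⋙
        DCoh.tensorRightMod M ⋙ Scheme.Modules.pullback g') hc⟩⟩⟩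
  haveI hT : PreservesColimit (Discrete.functor C') (DCoh.LTensorMod M) := by
    obtain ⟨μ⟩ := nonempty_kLift_iso M
    haveI := preservesColimit_kLift (G := tensorModCx M)
      (fun _ _ α hα hP hQ => haveI := hα; quasiIso_tensorRightMod M α hP hQ) C'
    exact preservesColimit_of_natIso _ μ
  have hTq : ∀ j, DCoh.IsQCohD ((DCoh.LTensorMod M).obj (C' j)) := fun j => isQCohD_ltensorMod hM (hC' j)
  haveI := preservesColimit_rpush (f := f) (fun j => (DCoh.LTensorMod M).obj (C' j)) hTq
  haveI : PreservesColimit (Discrete.functor fun j => (DCoh.LTensorMod M).obj (C' j)) R :=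
    preservesColimit_of_natIso _ eR.symm
  haveI : PreservesColimit (Discrete.functor C' ⋙ DCoh.LTensorMod M) R :=
    preservesColimit_of_iso_diagram R (Discrete.natIso fun _ => Iso.refl _ :
      Discrete.functor (fun j => (DCoh.LTensorMod M).obj (C' j)) ≅ Discrete.functor C' ⋙ DCoh.LTensorMod M)
  haveI := preservesColimit_left (cg.ofNatIsoLeft eG.symm) fun j => R.obj ((DCoh.LTensorMod M).obj (C' j))
  haveI : PreservesColimit (Discrete.functor C' ⋙ DCoh.LTensorMod M ⋙ R) G :=
    preservesColimit_of_iso_diagram G (Discrete.natIso fun _ => Iso.refl _ :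
      Discrete.functor (fun j => R.obj ((DCoh.LTensorMod M).obj (C' j))) ≅
        Discrete.functor C' ⋙ DCoh.LTensorMod M ⋙ R)
  haveI := preservesColimit_kLift (kRespects_tensorPull g' M) C'
  haveI := preservesColimit_rpush (f := f') (fun j => (pullTensorD g' M).obj (C' j))
    fun j => isQCohD_pullTensorD hM (hC' j)
  haveI : PreservesColimit (Discrete.functor fun j => (pullTensorD g' M).obj (C' j)) R' :=
    preservesColimit_of_natIso _ eR'.symm
  haveI : PreservesColimit (Discrete.functor C' ⋙ pullTensorD g' M) R' :=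
    preservesColimit_of_iso_diagram R' (Discrete.natIso fun _ => Iso.refl _ :
      Discrete.functor (fun j => (pullTensorD g' M).obj (C' j)) ≅ Discrete.functor C' ⋙ pullTensorD g' M)
  haveI : PreservesColimit (Discrete.functor C') (DCoh.LTensorMod M ⋙ R ⋙ G) := by
    haveI : PreservesColimit (Discrete.functor C') (DCoh.LTensorMod M ⋙ R) := inferInstance
    change PreservesColimit (Discrete.functor C') ((DCoh.LTensorMod M ⋙ R) ⋙ G)
    infer_instance
  exact isIso_app_sigma (Functor.whiskerLeft (DCoh.LTensorMod M) (bcM a a' α.hom) ≫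
      Functor.whiskerRight (mu g' M) R' : DCoh.LTensorMod M ⋙ R ⋙ G ⟶ pullTensorD g' M ⋙ R') C'
    fun j => h j n L R L' R' G eL eL' eG a a' α

end Groth.Agent.GBC
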