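import Groth.Agent.GBC.Formal
import Groth.Agent.RBC.AffineGen
import Groth.Agent.QCoh.PullbackBC
import Groth.Agent.KFlatLib.Scheme.QCohTensor
import Groth.Agent.PushAmp.RelFlat

/-!
# Base change for `E ⊗^L G` on affine schemes
-/

set_option autoImplicit false
set_option linter.style.haveILetI false
set_option backward.isDefEq.respectTransparency false
set_option backward.isDefEq.respectTransparency.types false
set_option maxHeartbeats 800000
set_option synthInstance.maxHeartbeats 400000

universe u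

open CategoryTheory CategoryTheory.Limits AlgebraicGeometry Pretriangulated TopologicalSpace Opposite
open scoped TensorProduct

attribute [local instance] HasDerivedCategory.standard

noncomputable section

namespace Groth.Agent.GBC

open Groth.Agent.KFlatLib Groth.Agent.DQGen Groth.Agent.RBC H23.ModLoc

attribute [local instance] hasLpull hasRpush_scheme hasLTensorMod hasLTensorCx

variable {X S X' S' : Scheme.{u}} {f : X ⟶ S} {g : S' ⟶ S} {f' : X' ⟶ S'} {g' : X' ⟶ X}

/-- The module `M` in degree `k`. -/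
abbrev sD (M : X.Modules) (k : ℤ) : DCoh.D X := (DerivedCategory.singleFunctor X.Modules k).obj M

/-- The map out of the structure module given by a global section. -/
def secHom {M : X.Modules} (m : Γ(M, ⊤)) : Coh.structureModule X ⟶ M := (topEquiv M).symm m

lemma topEquiv_secHom {M : X.Modules} (m : Γ(M, ⊤)) : topEquiv M (secHom m) = m :=
  (topEquiv M).apply_symm_apply m

lemma secHom_surjective {M : X.Modules} (φ : Coh.structureModule X ⟶ M) : ∃ m, secHom m = φ :=
  ⟨topEquiv M φ, (topEquiv M).symm_apply_apply φ⟩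

lemma secHom_add {M : X.Modules} (m m' : Γ(M, ⊤)) : secHom (m + m') = secHom m + secHom m' := by
  apply (topEquiv M).injective
  rw [topEquiv_secHom]
  exact (congrArg₂ (· + ·) (topEquiv_secHom m) (topEquiv_secHom m')).symm

lemma mulHom_secHom {M : X.Modules} (r : Γ(X, ⊤)) (m : Γ(M, ⊤)) :
    QCoh.mulHom r ≫ secHom m = secHom (r • m) := by
  apply (topEquiv M).injective
  rw [topEquiv_secHom]
  show (secHom m).app ⊤ (coeff (QCoh.mulHom r)) = r • m
  rw [coeff_mulHom]
  have h := Scheme.Modules.Hom.app_smul (secHom m) r (1 : Γ(X, ⊤))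
  rw [show r • (1 : Γ(X, ⊤)) = r from mul_one r] at h
  exact h.trans (congrArg (r • ·) (topEquiv_secHom m))

/-- Inverse image of the map given by a section. -/
lemma pullback_secHom {M : X.Modules} (m : Γ(M, ⊤)) :
    (Scheme.Modules.pullback g').map (secHom m) =
      SheafOfModules.pullbackObjUnitToUnit g'.toRingCatSheafHom ≫
        secHom (QCoh.pullSec (V := (⊤ : X.Opens)) (W := (⊤ : X'.Opens)) g' M le_top m) := by
  let adj := Scheme.Modules.pullbackPushforwardAdjunction g'
  haveI : IsIso (SheafOfModules.pullbackObjUnitToUnit g'.toRingCatSheafHom) := inferInstance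
  let z : Coh.structureModule X' ⟶ (Scheme.Modules.pullback g').obj M := inv (SheafOfModules.pullbackObjUnitToUnit g'.toRingCatSheafHom) ≫
    (Scheme.Modules.pullback g').map (secHom m)
  suffices hz : z = secHom (QCoh.pullSec (V := (⊤ : X.Opens)) (W := (⊤ : X'.Opens)) g' M le_top m) by
    rw [← hz]
    exact (IsIso.hom_inv_id_assoc (SheafOfModules.pullbackObjUnitToUnit g'.toRingCatSheafHom) _).symm
  apply (topEquiv _).injective
  rw [topEquiv_secHom]
  have hu : adj.homEquiv _ _ (SheafOfModules.pullbackObjUnitToUnit g'.toRingCatSheafHom) =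
      SheafOfModules.unitToPushforwardObjUnit g'.toRingCatSheafHom :=
    SheafOfModules.pullbackPushforwardAdjunction_homEquiv_pullbackObjUnitToUnit g'.toRingCatSheafHom
  have e : SheafOfModules.pullbackObjUnitToUnit g'.toRingCatSheafHom ≫ z =
      (Scheme.Modules.pullback g').map (secHom m) :=
    IsIso.hom_inv_id_assoc (SheafOfModules.pullbackObjUnitToUnit g'.toRingCatSheafHom) _
  have h := congrArg (adj.homEquiv _ _) e
  rw [adj.homEquiv_naturality_right, adj.homEquiv_unit (f := (Scheme.Modules.pullback g').map (secHom m))] at h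
  rw [show adj.homEquiv _ _ (SheafOfModules.pullbackObjUnitToUnit g'.toRingCatSheafHom) =
    SheafOfModules.unitToPushforwardObjUnit g'.toRingCatSheafHom from hu] at h
  have h' : adj.unit.app (Coh.structureModule X) ≫
      (Scheme.Modules.pushforward g').map ((Scheme.Modules.pullback g').map (secHom m)) =
      secHom m ≫ adj.unit.app M := (adj.unit.naturality (secHom m)).symm
  rw [h'] at h
  have h1 := congrArg (fun φ : Coh.structureModule X ⟶
      (Scheme.Modules.pushforward g').obj ((Scheme.Modules.pullback g').obj M) =>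
      φ.app ⊤ (1 : Γ(X, ⊤))) h
  have h2 : Scheme.Modules.Hom.app z (g' ⁻¹ᵁ ⊤) (1 : Γ(X', g' ⁻¹ᵁ ⊤)) = (adj.unit.app M).app ⊤ (topEquiv M (secHom m)) := by
    refine (congrArg (Scheme.Modules.Hom.app z (g' ⁻¹ᵁ ⊤)) ?_).trans h1
    exact (map_one (g'.app ⊤).hom).symm
  rw [topEquiv_secHom] at h2
  show Scheme.Modules.Hom.app z ⊤ (1 : Γ(X', ⊤)) = _
  simp only [QCoh.pullSec]
  rw [show homOfLE (le_top : (⊤ : X'.Opens) ≤ g' ⁻¹ᵁ ⊤) = 𝟙 _ from rfl]
  erw [((Scheme.Modules.pullback g').obj M).presheaf.map_id]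
  exact h2

/-- Sections of the pullback to the fibre product. -/
theorem exists_sections_equiv [IsAffine X] [IsAffine X'] [IsAffine S] [IsAffine S']
    (H : IsPullback g' f' f g) {M : X.Modules} (hM : Coh.IsQCoh M) :
    letI : Algebra Γ(S, ⊤) Γ(S', ⊤) := g.appTop.hom.toAlgebra
    letI : Module Γ(S, ⊤) Γ(M, ⊤) := Module.compHom _ f.appTop.hom
    ∃ Φ : Γ(S', ⊤) ⊗[Γ(S, ⊤)] Γ(M, ⊤) ≃+ Γ((Scheme.Modules.pullback g').obj M, ⊤), ∀ a₀ m,
      Φ (a₀ ⊗ₜ m) = f'.appTop a₀ • QCoh.pullSec (V := (⊤ : X.Opens)) (W := (⊤ : X'.Opens)) g' M le_top m := by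
  haveI : IsAffineHom f := inferInstance
  have hpo := HilbPtsRep.isPushout_app H.flip.flip (isAffineOpen_top S) (isAffineOpen_top S')
    (show (⊤ : S'.Opens) ≤ g ⁻¹ᵁ ⊤ from le_top)
  have hpo' : IsPushout g.appTop f.appTop f'.appTop g'.appTop := by
    simp only [Scheme.Hom.app_eq_appLE, Scheme.Hom.appTop] at hpo ⊢
    exact hpo.flip
  letI : Algebra Γ(S, ⊤) Γ(S', ⊤) := g.appTop.hom.toAlgebra
  letI : Algebra Γ(S, ⊤) Γ(X, ⊤) := f.appTop.hom.toAlgebra
  letI : Algebra Γ(S', ⊤) Γ(X', ⊤) := f'.appTop.hom.toAlgebra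
  letI : Algebra Γ(X, ⊤) Γ(X', ⊤) := g'.appTop.hom.toAlgebra
  letI : Algebra Γ(S, ⊤) Γ(X', ⊤) := (f'.appTop.hom.comp g.appTop.hom).toAlgebra
  haveI : IsScalarTower Γ(S, ⊤) Γ(S', ⊤) Γ(X', ⊤) := IsScalarTower.of_algebraMap_eq fun _ => rfl
  haveI : IsScalarTower Γ(S, ⊤) Γ(X, ⊤) Γ(X', ⊤) := IsScalarTower.of_algebraMap_eq fun s =>
    ConcreteCategory.congr_hom hpo'.w s
  haveI : Algebra.IsPushout Γ(S, ⊤) Γ(S', ⊤) Γ(X, ⊤) Γ(X', ⊤) :=
    CommRingCat.isPushout_iff_isPushout.1 hpo'
  letI : Module Γ(S, ⊤) Γ(M, ⊤) := Module.compHom _ f.appTop.hom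
  haveI : IsScalarTower Γ(S, ⊤) Γ(X, ⊤) Γ(M, ⊤) := IsScalarTower.of_algebraMap_smul fun _ _ => rfl
  let N := (Scheme.Modules.pullback g').obj M
  letI : Module Γ(X, ⊤) Γ(N, ⊤) := Module.compHom _ g'.appTop.hom
  haveI : IsScalarTower Γ(X, ⊤) Γ(X', ⊤) Γ(N, ⊤) := IsScalarTower.of_algebraMap_smul fun _ _ => rfl
  have halg : ∀ r, algebraMap Γ(X, ⊤) Γ(X', ⊤) r = g'.appLE ⊤ ⊤ le_top r := fun r => by
    simp [Scheme.Hom.appLE]; rfl
  let l : Γ(M, ⊤) →ₗ[Γ(X, ⊤)] Γ(N, ⊤) :=
    { toFun := QCoh.pullSec (V := (⊤ : X.Opens)) (W := (⊤ : X'.Opens)) g' M le_top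
      map_add' := QCoh.pullSec_add g' M le_top
      map_smul' := fun r x => by
        rw [QCoh.pullSec_smul, ← halg]
        rfl }
  have hl := QCoh.isBaseChange_pullback (isAffineOpen_top X) g' (isAffineOpen_top X') hM le_top halg l
    fun _ => rfl
  let c := Algebra.IsPushout.cancelBaseChangeAux Γ(S, ⊤) Γ(S', ⊤) Γ(X, ⊤) Γ(X', ⊤) Γ(M, ⊤)
  refine ⟨c.symm.toAddEquiv.trans hl.equiv.toAddEquiv, fun a₀ m => ?_⟩
  show hl.equiv (c.symm (a₀ ⊗ₜ m)) = _
  rw [Algebra.IsPushout.cancelBaseChangeAux_symm_tmul, IsBaseChange.equiv_tmul]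
  rfl

/-- Base change at a module flat over the base, in one degree. -/
theorem gbc_single [IsAffine X] [IsAffine S] [IsAffine S'] (H : IsPullback g' f' f g) {M : X.Modules}
    (hM : Coh.IsQCoh M) (hfl : FlatMod.IsFlatOver f M) (k : ℤ) :
    GBc f g f' g' ((HomologicalComplex.single X.Modules (ComplexShape.up ℤ) k).obj M) := by
  haveI : IsAffineHom f := inferInstance
  haveI : IsAffineHom f' := MorphismProperty.of_isPullback H inferInstance
  haveI : IsAffine X' := isAffine_of_isAffineHom f'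
  intro L R L' R' G eL eL' eG a a' α
  obtain ⟨eR⟩ := nonempty_right_iso eL a
  obtain ⟨eR'⟩ := nonempty_right_iso eL' a'
  obtain ⟨cg⟩ := nonempty_lpull_rpush_adj g
  obtain ⟨cg'⟩ := nonempty_lpull_rpush_adj g'
  let ag := cg.ofNatIsoLeft eG.symm
  haveI : G.Additive := additive_left ag
  haveI : (DCoh.Lpull g').Additive := additive_left cg'
  haveI : L'.Additive := additive_left a'
  haveI : L.Additive := additive_left a
  haveI : R.Additive := a.right_adjoint_additive
  haveI := ag.leftAdjoint_preservesColimits.{u, u}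
  let N := (Scheme.Modules.pullback g').obj M
  let C := (HomologicalComplex.single X.Modules (ComplexShape.up ℤ) k).obj M
  let iM : sD M k ≅ DerivedCategory.Q.obj C := (DerivedCategory.singleFunctorIsoCompQ X.Modules k).app M
  let e' : DerivedCategory.Q.obj ((pullCx g').obj C) ≅ sD N k :=
    DerivedCategory.Q.mapIso ((HomologicalComplex.singleMapHomologicalComplex (Scheme.Modules.pullback g')
      (ComplexShape.up ℤ) k).app M) ≪≫
      ((DerivedCategory.singleFunctorIsoCompQ X'.Modules k).app N).symm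
  obtain ⟨u⟩ := nonempty_lpull_oD f k eL
  obtain ⟨u'⟩ := nonempty_lpull_oD f' k eL'
  obtain ⟨v⟩ := nonempty_lpull_oD g k eG
  haveI := isIso_singleLpullNat g' k (M := Coh.structureModule X) isFlat_structureModule
  haveI : IsIso (SheafOfModules.pullbackObjUnitToUnit g'.toRingCatSheafHom) := inferInstance
  let w : (DCoh.Lpull g').obj (oD X k) ≅ oD X' k :=
    asIso ((singleLpullNat g' k).app (Coh.structureModule X)) ≪≫
      (DerivedCategory.singleFunctor X'.Modules k).mapIso
        (asIso (SheafOfModules.pullbackObjUnitToUnit g'.toRingCatSheafHom))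
  have hNq : Coh.IsQCoh N := QCoh.isQCoh_pullback g' hM
  have hA : DCoh.IsQCohD (DerivedCategory.Q.obj C) := isQCohD_of_iso iM (isQCohD_sD hM k)
  have hA' : DCoh.IsQCohD (DerivedCategory.Q.obj ((pullCx g').obj C)) :=
    isQCohD_of_iso e'.symm (isQCohD_sD hNq k)
  have hRO : DCoh.IsQCohD (R.obj (DerivedCategory.Q.obj C)) :=
    isQCohD_of_iso (eR.app _).symm (isQCohD_rpush f hA)
  have hN : DCoh.IsQCohD (G.obj (R.obj (DerivedCategory.Q.obj C))) :=
    isQCohD_of_iso (eG.app _).symm (isQCohD_lpull g hRO)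
  have hT : DCoh.IsQCohD (R'.obj (DerivedCategory.Q.obj ((pullCx g').obj C))) :=
    isQCohD_of_iso (eR'.app _).symm (isQCohD_rpush f' hA')
  -- concentration
  have subX : ∀ n, n ≠ k → Subsingleton (oD X n ⟶ DerivedCategory.Q.obj C) := fun n hn => by
    refine subsingleton_hom_oD hA n (IsZero.of_iso ?_ ((DerivedCategory.homologyFunctor _ n).mapIso iM.symm))
    rcases lt_or_gt_of_ne hn with h | h
    · exact DerivedCategory.isZero_of_isGE _ k n h
    · exact DerivedCategory.isZero_of_isLE _ k n h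
  have subX' : ∀ n, n ≠ k → Subsingleton (oD X' n ⟶ DerivedCategory.Q.obj ((pullCx g').obj C)) := fun n hn => by
    refine subsingleton_hom_oD hA' n (IsZero.of_iso ?_ ((DerivedCategory.homologyFunctor _ n).mapIso e'))
    rcases lt_or_gt_of_ne hn with h | h
    · exact DerivedCategory.isZero_of_isGE _ k n h
    · exact DerivedCategory.isZero_of_isLE _ k n h
  have subR : ∀ n, n ≠ k → Subsingleton (oD S n ⟶ R.obj (DerivedCategory.Q.obj C)) := fun n hn => by
    obtain ⟨un⟩ := nonempty_lpull_oD f n eL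
    haveI := subX n hn
    exact ((a.homEquiv _ _).symm.trans (un.homCongr (Iso.refl _))).subsingleton
  haveI hROle : (R.obj (DerivedCategory.Q.obj C)).IsLE k := (DerivedCategory.isLE_iff _ _).2 fun n hn =>
    isZero_hd_of_subsingleton hRO n (subR n (by omega))
  have subT : ∀ n, n ≠ k → Subsingleton (oD S' n ⟶ R'.obj (DerivedCategory.Q.obj ((pullCx g').obj C))) :=
    fun n hn => by
    obtain ⟨un⟩ := nonempty_lpull_oD f' n eL'
    haveI := subX' n hn
    exact ((a'.homEquiv _ _).symm.trans (un.homCongr (Iso.refl _))).subsingleton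
  have hvan : ∀ i < k, IsZero (DCoh.HD ((DCoh.Lpull g).obj ((DCoh.Rpush f).obj (DerivedCategory.Q.obj C))) i) := by
    intro i hi
    have hta : DerSch.HasTorAmplitude f k k C :=
      PushAmp.hasTorAmplitude_of_flatOver _
        (fun m hm => HomologicalComplex.isZero_single_obj_X (ComplexShape.up ℤ) k _ m (by omega))
        fun m x => by
          rcases eq_or_ne m k with rfl | hm
          · haveI : Module.Flat _ ((DerSch.stalkOver f x).obj M) := hfl x
            change Module.Flat _ ((DerSch.stalkOver f x).obj (C.X m) : Type u)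
            exact Module.Flat.of_linearEquiv
              ((DerSch.stalkOver f x).mapIso
                (HomologicalComplex.singleObjXSelf (ComplexShape.up ℤ) m M)).toLinearEquiv
          · haveI : Subsingleton ((DerSch.stalkOver f x).obj (C.X m)) :=
              ModuleCat.subsingleton_of_isZero
                ((DerSch.stalkOver f x).map_isZero
                  (HomologicalComplex.isZero_single_obj_X (ComplexShape.up ℤ) k _ m hm))
            change Module.Flat _ ((DerSch.stalkOver f x).obj (C.X m) : Type u)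
            infer_instance
    obtain ⟨b', hb'⟩ := PushAmp.exists_flatAmplitude_rpush f C hA k k hta
    obtain ⟨E, hE, -, ⟨eE⟩⟩ := flatAmplitude_lpull g hb'
    refine IsZero.of_iso ?_ ((DerivedCategory.homologyFunctor _ i).mapIso eE.symm ≪≫
      (DerivedCategory.homologyFunctorFactors _ i).app E)
    exact ShortComplex.isZero_homology_of_isZero_X₂ _ (hE i (Or.inl hi))
  have subN : ∀ n, n ≠ k → Subsingleton (oD S' n ⟶ G.obj (R.obj (DerivedCategory.Q.obj C))) := fun n hn => by
    refine subsingleton_hom_oD hN n ?_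
    rcases lt_or_gt_of_ne hn with h | h
    · exact (hvan n h).of_iso ((DerivedCategory.homologyFunctor _ n).mapIso
        (eG.app _ ≪≫ (DCoh.Lpull g).mapIso (eR.app _)))
    · haveI := isLE_lpull g (R.obj (DerivedCategory.Q.obj C)) k
      exact (DerivedCategory.isZero_of_isLE ((DCoh.Lpull g).obj (R.obj (DerivedCategory.Q.obj C))) k n h).of_iso
        ((DerivedCategory.homologyFunctor _ n).mapIso (eG.app _))
  let θ := (bcM a a' α.hom).app (DerivedCategory.Q.obj C) ≫ R'.map ((lpullComparison g').app C)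
  refine isIso_of_bijective_oD hN hT θ fun n => ?_
  by_cases hn : n = k
  swap
  · haveI := subN n hn
    haveI := subT n hn
    exact ⟨fun x y _ => Subsingleton.elim x y, fun z => ⟨0, Subsingleton.elim _ _⟩⟩
  subst hn
  -- sections of the direct image
  let Ds : Γ(M, ⊤) → (oD X n ⟶ DerivedCategory.Q.obj C) := fun m =>
    (DerivedCategory.singleFunctor X.Modules n).map (secHom m) ≫ iM.hom
  let x : Γ(M, ⊤) → (oD S n ⟶ R.obj (DerivedCategory.Q.obj C)) := fun m => a.homEquiv _ _ (u.hom ≫ Ds m)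
  have hx : ∀ z, ∃ m, x m = z := fun z => by
    obtain ⟨φ, hφ⟩ := (DerivedCategory.singleFunctor X.Modules n).map_surjective
      (u.inv ≫ (a.homEquiv _ _).symm z ≫ iM.inv)
    obtain ⟨m, rfl⟩ := secHom_surjective φ
    exact ⟨m, by simp only [x, Ds, hφ, Category.assoc, Iso.inv_hom_id, Category.comp_id,
      Iso.hom_inv_id_assoc, Equiv.apply_symm_apply]⟩
  letI : Algebra Γ(S, ⊤) Γ(S', ⊤) := g.appTop.hom.toAlgebra
  letI : Module Γ(S, ⊤) Γ(M, ⊤) := Module.compHom _ f.appTop.hom
  have hxs : ∀ (s : Γ(S, ⊤)) m, x (f.appTop s • m) = smulD n s ≫ x m := fun s m => by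
    simp only [x, ← a.homEquiv_naturality_left, reassoc_of% (map_smulD f n eL u s)]
    refine congrArg (fun t => a.homEquiv _ _ (u.hom ≫ t)) ?_
    simp only [Ds, smulD, ← mulHom_secHom, Functor.map_comp, Category.assoc]
  have hxadd : ∀ m m', x (m + m') = x m + x m' := fun m m' => by
    simp only [x, Ds, secHom_add, Functor.map_add, Preadditive.add_comp, Preadditive.comp_add,
      Adjunction.homEquiv_unit]
  let m₂ : Γ(S', ⊤) → Γ(M, ⊤) → (oD S' n ⟶ G.obj (R.obj (DerivedCategory.Q.obj C))) := fun a₀ m =>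
    smulD n a₀ ≫ v.inv ≫ G.map (x m)
  have hbal : ∀ (s : Γ(S, ⊤)) a₀ m, m₂ (g.appTop s * a₀) m = m₂ a₀ (f.appTop s • m) := fun s a₀ m => by
    have hv : smulD n (g.appTop s) ≫ v.inv = v.inv ≫ G.map (smulD n s) := by
      rw [Iso.eq_inv_comp, ← Category.assoc, ← map_smulD g n eG v s, Category.assoc, Iso.hom_inv_id,
        Category.comp_id]
    simp only [m₂, hxs, Functor.map_comp]
    rw [smulD_mul, smulD_comm, Category.assoc, reassoc_of% hv]
  let μ : Γ(S', ⊤) ⊗[Γ(S, ⊤)] Γ(M, ⊤) →+ (oD S' n ⟶ G.obj (R.obj (DerivedCategory.Q.obj C))) :=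
    TensorProduct.liftAddHom
      (AddMonoidHom.mk' (fun a₀ => AddMonoidHom.mk' (m₂ a₀) (fun b b' => by
          simp only [m₂, hxadd, Functor.map_add, Preadditive.comp_add]))
        (fun a₀ a₁ => AddMonoidHom.ext fun b => by
          simp only [m₂, AddMonoidHom.mk'_apply, AddMonoidHom.add_apply, smulD_add, Preadditive.add_comp]))
      (fun s a₀ b => hbal s a₀ b)
  have hμ : ∀ a₀ m, μ (a₀ ⊗ₜ m) = smulD n a₀ ≫ v.inv ≫ G.map (x m) := fun _ _ =>
    TensorProduct.liftAddHom_tmul _ _ _ _
  -- the composite on simple tensors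
  let E₁ : (oD S' n ⟶ R'.obj (DerivedCategory.Q.obj ((pullCx g').obj C))) ≃ (oD X' n ⟶ sD N n) :=
    (a'.homEquiv _ _).symm.trans (u'.homCongr e')
  obtain ⟨c, hc⟩ := exists_smulD_eq n
    (u'.inv ≫ L'.map v.inv ≫ α.hom.app (oD S n) ≫ (DCoh.Lpull g').map u.hom ≫ w.hom)
  obtain ⟨d, hd⟩ := exists_smulD_eq n
    (w.inv ≫ (DCoh.Lpull g').map u.inv ≫ α.inv.app (oD S n) ≫ L'.map v.hom ≫ u'.hom)
  have hcd : c * d = 1 := smulD_injective n (by
    rw [smulD_mul, hc, hd, smulD_one]
    simp [← Functor.map_comp_assoc])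
  let sec' : Γ(N, ⊤) → (oD X' n ⟶ sD N n) := fun t =>
    (DerivedCategory.singleFunctor X'.Modules n).map (secHom t)
  have hsec : ∀ t, (DCoh.Lpull g').map (Ds t) ≫ (lpullComparison g').app C ≫ e'.hom =
      w.hom ≫ sec' (QCoh.pullSec (V := (⊤ : X.Opens)) (W := (⊤ : X'.Opens)) g' M le_top t) := fun t => by
    have n₁ := (singleLpullNat g' n).naturality (secHom t)
    simp only [Functor.comp_map] at n₁
    have hdef : (DCoh.Lpull g').map iM.hom ≫ (lpullComparison g').app C ≫ e'.hom =
        (singleLpullNat g' n).app M := by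
      simp [singleLpullNat, iM, e', C]
      rfl
    simp only [Ds, Functor.map_comp, Category.assoc]
    rw [hdef]
    erw [n₁, pullback_secHom, Functor.map_comp]
    simp [w, sec']
  have hΨ : ∀ a₀ t, E₁ ((smulD n a₀ ≫ v.inv ≫ G.map (x t)) ≫ θ) =
      sec' ((f'.appTop a₀ * c) • QCoh.pullSec (V := (⊤ : X.Opens)) (W := (⊤ : X'.Opens)) g' M le_top t) := fun a₀ t => by
    have h1 : L'.map (smulD n a₀) = u'.hom ≫ smulD n (f'.appTop a₀) ≫ u'.inv := by
      rw [← Category.assoc, ← map_smulD f' n eL' u' a₀, Category.assoc, Iso.hom_inv_id, Category.comp_id]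
    have h3 : L.map (x t) ≫ a.counit.app (DerivedCategory.Q.obj C) = u.hom ≫ Ds t :=
      (Adjunction.homEquiv_counit _ _ _ _).symm.trans (Equiv.symm_apply_apply _ _)
    have hα := α.hom.naturality (x t)
    simp only [Functor.comp_map] at hα
    simp only [E₁, θ, Equiv.trans_apply, Iso.homCongr_apply, ← Category.assoc,
      a'.homEquiv_naturality_right_symm]
    simp only [Category.assoc, a'.homEquiv_naturality_left_symm]
    erw [homEquiv_symm_bcM]
    simp only [Functor.map_comp, Category.assoc, h1]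
    erw [reassoc_of% hα]
    rw [← Functor.map_comp_assoc, h3, Functor.map_comp, Category.assoc]
    erw [hsec]
    simp only [Iso.inv_hom_id_assoc]
    erw [← reassoc_of% hc]
    simp only [sec', smulD, ← Functor.map_comp, mulHom_secHom, smul_smul]
  obtain ⟨Φ, hΦ⟩ := exists_sections_equiv H hM
  let Ψ : (oD S' n ⟶ G.obj (R.obj (DerivedCategory.Q.obj C))) → (oD X' n ⟶ sD N n) := fun y => E₁ (y ≫ θ)
  have hΨμ : ∀ t, Ψ (μ t) = sec' (c • Φ t) := fun t => by
    induction t using TensorProduct.induction_on with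
    | zero =>
      have h0 : sec' 0 = 0 := by
        have := secHom_add (M := N) 0 0
        rw [add_zero] at this
        simp only [sec', show secHom (0 : Γ(N, ⊤)) = 0 by simpa using this, Functor.map_zero]
      simp [Ψ, E₁, h0, Iso.homCongr, Adjunction.homEquiv_counit]
    | tmul a₀ t =>
      rw [hμ, hΦ, smul_smul, mul_comm c]
      exact hΨ a₀ t
    | add t t' ht ht' =>
      simp only [Ψ, E₁, map_add, Preadditive.add_comp, Equiv.trans_apply, Iso.homCongr_apply,
        Adjunction.homEquiv_counit, Functor.map_add, Preadditive.comp_add] at ht ht' ⊢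
      rw [ht, ht', smul_add]
      simp only [sec', secHom_add, Functor.map_add]
  -- spanning
  have hspan : Function.Surjective μ := by
    intro y
    haveI : HasColimitsOfShape (Discrete Γ(M, ⊤)) (DCoh.D S) := TriCat.hasColimitsOfShape_derivedCategory
    haveI : HasColimitsOfShape (Discrete Γ(M, ⊤)) (DCoh.D S') := TriCat.hasColimitsOfShape_derivedCategory
    let P := ∐ fun _ : Γ(M, ⊤) => oD S n
    let p : P ⟶ R.obj (DerivedCategory.Q.obj C) := Sigma.desc x
    obtain ⟨K, q, r, hT₀⟩ := distinguished_cocone_triangle p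
    have hP : DCoh.IsQCohD P := isQCohD_sigma _ fun _ => RBC.isQCohD_oD S n
    have hK : DCoh.IsQCohD K := isQCohD_obj₃ hT₀ hP hRO
    haveI hKle : K.IsLE (n - 1) := (DerivedCategory.isLE_iff _ _).2 fun i hi => by
      refine isZero_hd_of_subsingleton hK i (subsingleton_of_forall_eq 0 fun z => ?_)
      have hPi : Subsingleton (oD S i ⟶ P⟦(1 : ℤ)⟧) := by
        refine subsingleton_hom_oD (isQCohD_shift hP 1) i ?_
        refine IsZero.of_iso ?_ (((DerivedCategory.homologyFunctor S.Modules 0).shiftIso 1 i (i + 1) (by omega)).app P)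
        haveI := preservesColimit_homology (fun _ : Γ(M, ⊤) => oD S n) (i + 1)
        refine IsZero.of_iso ?_ (PreservesCoproduct.iso (DerivedCategory.homologyFunctor S.Modules (i + 1)) _)
        refine IsZero.of_iso ?_ (Iso.refl _)
        rw [IsZero.iff_id_eq_zero]
        exact Sigma.hom_ext _ _ fun j =>
          (DerivedCategory.isZero_of_isLE (oD S n) n (i + 1) (by omega)).eq_of_src _ _
      obtain ⟨z', rfl⟩ := Triangle.coyoneda_exact₃ _ hT₀ z (hPi.elim _ _)
      rcases eq_or_ne i n with rfl | hin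
      · obtain ⟨b, rfl⟩ := hx z'
        change x b ≫ q = 0
        rw [show x b = Sigma.ι (fun _ => oD S i) b ≫ p by simp [p], Category.assoc,
          show p ≫ q = 0 from comp_distTriang_mor_zero₁₂ _ hT₀, comp_zero]
      · rw [(subR i hin).elim z' 0]
        exact zero_comp
    have hGK : Subsingleton (oD S' n ⟶ G.obj K) := by
      refine subsingleton_hom_oD (isQCohD_of_iso (eG.app _).symm (isQCohD_lpull g hK)) n ?_
      haveI := isLE_lpull g K (n - 1)
      exact (DerivedCategory.isZero_of_isLE ((DCoh.Lpull g).obj K) (n - 1) n (by omega)).of_iso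
        ((DerivedCategory.homologyFunctor _ n).mapIso (eG.app _))
    let Hm := preadditiveCoyoneda.obj (op (oD S' n))
    haveI := isHomological_lpull_comp g Hm
    haveI : (G ⋙ Hm).IsHomological :=
      Functor.IsHomological.of_iso (Functor.isoWhiskerRight eG.symm Hm)
    have hex := (ShortComplex.ab_exact_iff _).1 ((G ⋙ Hm).map_distinguished_exact _ hT₀) y (hGK.elim _ _)
    obtain ⟨y₁, hy₁ : y₁ ≫ G.map p = y⟩ := hex
    let ψ := PreservesCoproduct.iso G fun _ : Γ(M, ⊤) => oD S n
    obtain ⟨F, hF⟩ := fixAt_of_isPerfect (isPerfect_oD S' n) (fun _ : Γ(M, ⊤) => G.obj (oD S n))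
      (fun _ => isQCohD_of_iso v.symm (RBC.isQCohD_oD S' n)) (y₁ ≫ ψ.hom)
    rw [partProj_eq_sum] at hF
    have hy : y = ∑ b ∈ F, (y₁ ≫ ψ.hom ≫ TriCat.coprodProj _ b) ≫ G.map (x b) := by
      rw [← hy₁, ← Iso.hom_inv_id_assoc ψ (G.map p), ← Category.assoc, ← hF, Preadditive.comp_sum,
        Preadditive.sum_comp]
      refine Finset.sum_congr rfl fun b _ => ?_
      simp only [Category.assoc]
      refine congrArg (y₁ ≫ ψ.hom ≫ TriCat.coprodProj _ b ≫ ·) ?_
      simp [ψ, p, PreservesCoproduct.inv_hom, ← Functor.map_comp]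
    have hgen : ∀ (z : oD S' n ⟶ G.obj (oD S n)) b, ∃ t, μ t = z ≫ G.map (x b) := fun z b => by
      obtain ⟨a₀, ha₀⟩ := exists_smulD_eq n (z ≫ v.hom)
      exact ⟨a₀ ⊗ₜ b, by rw [hμ, ha₀, Category.assoc, Iso.hom_inv_id_assoc]⟩
    choose t ht using hgen
    exact ⟨∑ b ∈ F, t (y₁ ≫ ψ.hom ≫ TriCat.coprodProj _ b) b, by
      rw [map_sum, hy]; exact Finset.sum_congr rfl fun b _ => ht _ b⟩
  have hsec_inj : Function.Injective sec' := fun s t h =>
    (topEquiv N).symm.injective ((DerivedCategory.singleFunctor X'.Modules n).map_injective h)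
  have hΨbij : Function.Bijective Ψ := by
    refine ⟨fun y y' h => ?_, fun z => ?_⟩
    · obtain ⟨t, rfl⟩ := hspan y
      obtain ⟨t', rfl⟩ := hspan y'
      rw [hΨμ, hΨμ] at h
      have h2 := congrArg (fun s => d • s) (hsec_inj h)
      simp only [smul_smul, mul_comm d c, hcd, one_smul] at h2
      rw [Φ.injective h2]
    · obtain ⟨φ, rfl⟩ := (DerivedCategory.singleFunctor X'.Modules n).map_surjective z
      obtain ⟨s, rfl⟩ := secHom_surjective φ
      obtain ⟨t, ht⟩ := Φ.surjective (d • s)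
      exact ⟨μ t, by rw [hΨμ, ht, smul_smul, hcd, one_smul]⟩
  exact (Equiv.comp_bijective _ E₁).1 hΨbij

/-- Base change for all quasi-coherent complexes on affine schemes. -/
theorem gb_affine [IsAffine X] [IsAffine S] [IsAffine S'] (H : IsPullback g' f' f g) {M : X.Modules}
    (hM : Coh.IsQCoh M) (hfl : FlatMod.IsFlatOver f M) (E : DCoh.D X) (hE : DCoh.IsQCohD E) :
    GB f g f' g' M E := by
  haveI : IsAffineHom f := inferInstance
  haveI : IsAffineHom f' := MorphismProperty.of_isPullback H inferInstance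
  haveI : IsAffine X' := isAffine_of_isAffineHom f'
  have base : ∀ k : ℤ, GB f g f' g' M (oD X k) := fun k => by
    let K := (HomologicalComplex.single X.Modules (ComplexShape.up ℤ) k).obj (Coh.structureModule X)
    have hK : DCoh.IsKFlat K := isKFlat_of_isStrictlyLE _ k (isFlat_single k isFlat_structureModule)
    refine GB.of_iso ((DerivedCategory.singleFunctorIsoCompQ X.Modules k).app _).symm ((gb_iff hK).2 ?_)
    refine GBc.of_iso ?_ (gbc_single H hM hfl k)
    exact (HomologicalComplex.single X.Modules (ComplexShape.up ℤ) k).mapIso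
        ((tensorUnitIso M).symm ≪≫ (((tensorBiFlipIso X).app M).app (Coh.structureModule X)).symm ≪≫
          (Exactness.flipTensorIso M).app _) ≪≫
      ((HomologicalComplex.singleMapHomologicalComplex (DCoh.tensorRightMod M) (ComplexShape.up ℤ) k).app
        (Coh.structureModule X)).symm
  let B := Γ(X, ⊤)
  let j := X.isoSpec.hom
  haveI : PreservesFiniteLimits (tilde.functor B) := QCoh.tilde_preservesFiniteLimits (R := B)
  let T : DerivedCategory (ModuleCat.{u} B) ⥤ DCoh.D X := DCoh.tildeD B ⋙ rho j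
  let Gx : CochainComplex (ModuleCat.{u} B) ℤ ⥤ CochainComplex X.Modules ℤ :=
    (tilde.functor B).mapHomologicalComplex (ComplexShape.up ℤ) ⋙ rCx j
  let eT : DerivedCategory.Q ⋙ T ≅ Gx ⋙ DerivedCategory.Q :=
    (Functor.associator _ _ _).symm ≪≫
      Functor.isoWhiskerRight (tilde.functor B).mapDerivedCategoryFactors _ ≪≫
      Functor.associator _ _ _ ≪≫ Functor.isoWhiskerLeft _ (rhoQ j) ≪≫ (Functor.associator _ _ _).symm
  have hTq : ∀ N, DCoh.IsQCohD (T.obj N) := fun N => isQCohD_restrictD j (isQCohD_tildeD B N)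
  let Pr : ObjectProperty (DerivedCategory (ModuleCat.{u} B)) := fun N => GBs f g f' g' M (T.obj N)
  haveI : Pr.IsClosedUnderIsomorphisms := ⟨fun e h => h.of_iso (T.mapIso e)⟩
  have hall : ∀ N, Pr N := fun N => by
    refine derived_induction Pr
      (fun T₀ hT₀ h₁ h₂ => GBs.obj₃ _ (T.map_distinguished T₀ hT₀) h₁ h₂) (fun J K hK => ?_) (fun n => ?_) N
    · haveI : PreservesColimitsOfShape (Discrete J) Gx := by
        haveI : (tilde.functor B).IsLeftAdjoint := inferInstance
        haveI : (Scheme.Modules.restrictFunctor j).IsLeftAdjoint :=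
          (Scheme.Modules.restrictAdjunction j).isLeftAdjoint
        exact ⟨fun {K} => ⟨fun {c} hc => ⟨HomologicalComplex.isColimitOfEval _ _ fun m =>
          isColimitOfPreserves (HomologicalComplex.eval _ (ComplexShape.up ℤ) m ⋙
            tilde.functor B ⋙ Scheme.Modules.restrictFunctor j) hc⟩⟩⟩
      haveI : HasColimitsOfShape (Discrete J) (DCoh.D X) := TriCat.hasColimitsOfShape_derivedCategory
      haveI := preservesColimit_Q fun k => Gx.obj (K k)
      refine GBs.of_iso (eT.app (∐ K) ≪≫ DerivedCategory.Q.mapIso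
        (PreservesCoproduct.iso Gx K) ≪≫ PreservesCoproduct.iso DerivedCategory.Q _).symm ?_
      exact GBs.sigma _ hM (fun k => isQCohD_of_iso (eT.app (K k)) (hTq _))
        fun k => (hK k).of_iso (eT.app (K k))
    · let e : T.obj (DerivedCategory.Q.obj ((HomologicalComplex.single (ModuleCat.{u} B)
          (ComplexShape.up ℤ) n).obj (ModuleCat.of B B))) ≅ oD X n :=
        eT.app _ ≪≫ DerivedCategory.Q.mapIso
          ((rCx j).mapIso ((HomologicalComplex.singleMapHomologicalComplex (tilde.functor B) _ n).app _) ≪≫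
            (HomologicalComplex.singleMapHomologicalComplex (Scheme.Modules.restrictFunctor j) _ n).app _ ≪≫
            (HomologicalComplex.single X.Modules _ n).mapIso
              ((Scheme.Modules.restrictFunctor j).mapIso tildeSelf ≪≫ restrictStructureIso j)) ≪≫
          ((DerivedCategory.singleFunctorIsoCompQ X.Modules n).app _).symm
      refine GBs.of_iso e.symm fun m => GB.of_iso ?_ (base (n - m))
      exact (((DerivedCategory.singleFunctors X.Modules).shiftIso m (n - m) n (by omega)).app _).symm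
  obtain ⟨N, ⟨eN⟩⟩ := exists_tildeD_iso (isQCohD_restrictD X.isoSpec.inv hE)
  refine ((hall N).of_iso ((rho j).mapIso eN ≪≫ rhoComp j X.isoSpec.inv (𝟙 X) X.isoSpec.hom_inv_id E ≪≫
    (rho (𝟙 X)).mapIso (repIso E).symm ≪≫ (rhoQ (𝟙 X)).app _ ≪≫
    DerivedCategory.Q.mapIso ((NatIso.mapHomologicalComplex (Scheme.Modules.restrictFunctorId (X := X))
      (ComplexShape.up ℤ) ≪≫ Functor.mapHomologicalComplexIdIso X.Modules (ComplexShape.up ℤ)).app _) ≪≫
    repIso E)).gb

end Groth.Agent.GBC
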