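import Groth.Agent.GBC.PushFree
import Groth.Agent.KFlatLib.Scheme.TildePerf
import Groth.Agent.KFlatLib.Scheme.TildeD
import Groth.Agent.QCoh.RpushModel
import Groth.Agent.QCoh.PushLin
import Groth.Agent.QCoh.SpecFT
import Mathlib.Algebra.Homology.ShortComplex.ModuleCat

/-!
# Cohomology over coherent rings of flat modules with proper support
-/

set_option autoImplicit false
set_option linter.style.haveILetI false
set_option backward.isDefEq.respectTransparency false
set_option backward.isDefEq.respectTransparency.types false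
set_option maxHeartbeats 800000
set_option synthInstance.maxHeartbeats 400000

universe u

open CategoryTheory CategoryTheory.Limits AlgebraicGeometry TopologicalSpace Opposite

attribute [local instance] HasDerivedCategory.standard

noncomputable section

namespace Groth.Agent.GBC

open Groth.Agent.KFlatLib Groth.Agent.DQGen Groth.Agent.RBC

attribute [local instance] hasLpull hasRpush_scheme hasLTensorMod hasLTensorCx

section Algebra

variable {R : Type u} [CommRing R]

/-- Over a coherent ring finitely generated submodules of `R^n` are finitely presented. -/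
lemma finitePresentation_of_fg_pi (hR : ∀ I : Ideal R, I.FG → Module.FinitePresentation R I) :
    ∀ (n : ℕ) (N : Submodule R (Fin n → R)), N.FG → Module.FinitePresentation R N := by
  intro n
  induction n with
  | zero => intro N _; infer_instance
  | succ n ih =>
    intro N hN
    haveI : Module.Finite R N := Module.Finite.of_fg hN
    let π : N →ₗ[R] R := (LinearMap.proj 0).comp N.subtype
    haveI hI : Module.FinitePresentation R (LinearMap.range π) := hR _ (Module.Finite.fg_top.map π |>
      fun h => by rwa [Submodule.map_top] at h)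
    let τ : LinearMap.ker π.rangeRestrict →ₗ[R] (Fin n → R) :=
      (LinearMap.funLeft R R Fin.succ).comp (N.subtype.comp (Submodule.subtype _))
    have hτ : Function.Injective τ := by
      intro a b h
      refine Subtype.ext (Subtype.ext (funext fun i => ?_))
      have ha : π a.1 = 0 := congrArg Subtype.val a.2
      have hb : π b.1 = 0 := congrArg Subtype.val b.2
      refine Fin.cases (ha.trans hb.symm) (fun j => ?_) i
      exact congrFun h j
    have hker : (LinearMap.ker π.rangeRestrict).FG :=
      Module.FinitePresentation.fg_ker π.rangeRestrict π.surjective_rangeRestrict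
    haveI : Module.Finite R (LinearMap.ker π.rangeRestrict) := Module.Finite.of_fg hker
    haveI := ih (LinearMap.range τ) (Module.Finite.fg_top.map τ |> fun h => by rwa [Submodule.map_top] at h)
    let eτ : LinearMap.range τ ≃ₗ[R] LinearMap.ker π.rangeRestrict := (LinearEquiv.ofInjective τ hτ).symm
    haveI : Module.FinitePresentation R (LinearMap.ker π.rangeRestrict) :=
      @Module.FinitePresentation.of_equiv R (LinearMap.range τ) (LinearMap.ker π.rangeRestrict) _ _ _ _ _ eτ inferInstance
    exact Module.finitePresentation_of_ker π.rangeRestrict π.surjective_rangeRestrict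

/-- Cohomology of finite projective modules over a coherent ring. -/
lemma finitePresentation_homology (hR : ∀ I : Ideal R, I.FG → Module.FinitePresentation R I)
    (S : ShortComplex (ModuleCat.{u} R)) (h₁ : Module.Finite R S.X₁)
    (h₂ : Module.Finite R S.X₂ ∧ Module.Projective R S.X₂)
    (h₃ : Module.Finite R S.X₃ ∧ Module.Projective R S.X₃) : Module.FinitePresentation R S.homology := by
  have := h₁
  obtain ⟨_, _⟩ := h₂
  obtain ⟨_, _⟩ := h₃
  obtain ⟨n, p, hp⟩ := Module.Finite.exists_fin' R S.X₃
  obtain ⟨s, hs⟩ := Module.projective_lifting_property p LinearMap.id hp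
  have hs' : Function.Injective s := fun a b h => by
    have ha := LinearMap.congr_fun hs a
    have hb := LinearMap.congr_fun hs b
    simp only [LinearMap.comp_apply, LinearMap.id_apply] at ha hb
    rw [← ha, ← hb, h]
  haveI : Module.FinitePresentation R S.X₂ := Module.finitePresentation_of_projective R _
  let g := s.comp S.g.hom
  haveI := finitePresentation_of_fg_pi hR n (LinearMap.range g)
    (Module.Finite.fg_top.map g |> fun h => by rwa [Submodule.map_top] at h)
  haveI : Module.Finite R (LinearMap.ker S.g.hom) := by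
    refine Module.Finite.of_fg ?_
    have h := Module.FinitePresentation.fg_ker g.rangeRestrict g.surjective_rangeRestrict
    rwa [LinearMap.ker_rangeRestrict, LinearMap.ker_comp, LinearMap.ker_eq_bot.2 hs',
      Submodule.comap_bot] at h
  let t := s.comp S.g.hom
  haveI : Module.FinitePresentation R (LinearMap.ker S.g.hom) := by
    obtain ⟨m, q, hq⟩ := Module.Finite.exists_fin' R S.X₂
    obtain ⟨r, hr⟩ := Module.projective_lifting_property q LinearMap.id hq
    have hr' : Function.Injective r := fun a b h => by
      have ha := LinearMap.congr_fun hr a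
      have hb := LinearMap.congr_fun hr b
      simp only [LinearMap.comp_apply, LinearMap.id_apply] at ha hb
      rw [← ha, ← hb, h]
    let v := r.comp (LinearMap.ker S.g.hom).subtype
    haveI := finitePresentation_of_fg_pi hR m (LinearMap.range v)
      (Module.Finite.fg_top.map v |> fun h => by rwa [Submodule.map_top] at h)
    exact Module.FinitePresentation.of_equiv
      (LinearEquiv.ofInjective v (hr'.comp Subtype.val_injective)).symm
  haveI : Module.FinitePresentation R (LinearMap.ker S.g.hom ⧸ LinearMap.range S.moduleCatToCycles) :=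
    Module.finitePresentation_of_surjective (LinearMap.range S.moduleCatToCycles).mkQ
      (Submodule.mkQ_surjective _) (by
        rw [Submodule.ker_mkQ]
        exact Module.Finite.fg_top.map S.moduleCatToCycles |> fun h => by rwa [Submodule.map_top] at h)
  exact @Module.FinitePresentation.of_equiv R (LinearMap.ker S.g.hom ⧸ LinearMap.range S.moduleCatToCycles)
    _ _ _ _ _ _ S.moduleCatHomologyIso.toLinearEquiv.symm this

end Algebra

variable {X : Scheme.{u}}

/-- The higher direct images to `Spec R` are of finite presentation. -/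
theorem isFP_Rpush_coherent (R : CommRingCat.{u}) (hR : ∀ I : Ideal R, I.FG → Module.FinitePresentation R I)
    (f : X ⟶ Spec R) [LocallyOfFinitePresentation f] [QuasiCompact f] [QuasiSeparated f]
    [HasInjectiveResolutions X.Modules] (G : X.Modules) (hG : CohB1.IsFP G)
    (hflat : FlatMod.IsFlatOver f G) (hsupp : ClSub.IsProperOver f (CohB1.support G)) (i : ℕ) :
    CohB1.IsFP ((Coh.Rpush f i).obj G) := by
  haveI : PreservesFiniteLimits (tilde.functor R) := QCoh.tilde_preservesFiniteLimits (R := R)
  obtain ⟨c⟩ := nonempty_ltensorMod_oD G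
  let K := (DCoh.Rpush f).obj (DCoh.inD X G)
  have hK : DCoh.IsPerfect K :=
    isPerfect_of_iso ((DCoh.Rpush f).mapIso c) (isPerfect_rpush_tensor f G hG hflat hsupp (isPerfect_oD X 0))
  obtain ⟨M, ⟨eM⟩⟩ := exists_tildeD_iso (K := K) (isQCohD_of_isPerfect hK)
  obtain ⟨E, a, b, -, hf, ⟨eE⟩⟩ := (perfect_tildeD_iff M).1 (isPerfect_of_iso eM.symm hK)
  let T : CochainComplex (ModuleCat.{u} R) ℤ ⥤ CochainComplex (Spec R).Modules ℤ :=
    (tilde.functor R).mapHomologicalComplex (ComplexShape.up ℤ)
  obtain ⟨e₀⟩ := nonempty_hd_rpush_single f G i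
  let e : tilde (E.homology (i : ℤ)) ≅ (Coh.Rpush f i).obj G :=
    ((E.sc (i : ℤ)).mapHomologyIso (tilde.functor R)).symm ≪≫
      ((DerivedCategory.homologyFunctorFactors _ (i : ℤ)).app (T.obj E)).symm ≪≫
      (DerivedCategory.homologyFunctor _ (i : ℤ)).mapIso
        ((toDTildeIso E).symm ≪≫ (DCoh.tildeD R).mapIso eE ≪≫ eM) ≪≫ e₀
  refine (SheafOfModules.isFinitePresentation (R := (Spec R).ringCatSheaf)).prop_of_iso e
    ((QCoh.isFP_tilde_iff _).2 ?_)
  exact finitePresentation_homology hR (E.sc (i : ℤ)) (hf _).1 (hf _) (hf _)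

/-- Cohomology over a coherent ring. -/
theorem finitePresentation_HH (R : Type u) [CommRing R]
    (hR : ∀ I : Ideal R, I.FG → Module.FinitePresentation R I) [X.Over (Spec (CommRingCat.of R))]
    [QuasiCompact (X ↘ Spec (CommRingCat.of R))] [QuasiSeparated (X ↘ Spec (CommRingCat.of R))]
    [LocallyOfFinitePresentation (X ↘ Spec (CommRingCat.of R))]
    (G : X.Modules) (hG : CohB1.IsFP G) (hflat : FlatMod.IsFlatOver (X ↘ Spec (CommRingCat.of R)) G)
    (hsupp : ClSub.IsProperOver (X ↘ Spec (CommRingCat.of R)) (CohB1.support G)) (i : ℕ) :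
    Module.FinitePresentation R (Coh.HH X G i) := by
  let A := CommRingCat.of R
  let f : X ⟶ Spec A := X ↘ Spec A
  let V : (Spec A).Opens := ⊤
  let U : X.Opens := f ⁻¹ᵁ V
  have hq : Coh.IsQCoh G := QCoh.isQCoh_of_isFP hG
  haveI := QCoh.finitePresentation_of_isFP (isFP_Rpush_coherent A hR f G hG hflat hsupp i)
    (isAffineOpen_top (Spec A))
  letI mU := QCoh.modHH (QCoh.rhoV f V) (G.restrict U.ι) i
  obtain ⟨l₁⟩ := QCoh.nonempty_sections_HH (f := f) hq (isAffineOpen_top (Spec A)) i
  haveI : Module.FinitePresentation Γ(Spec A, ⊤) (Coh.HH _ (G.restrict U.ι) i) :=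
    Module.FinitePresentation.of_equiv l₁
  haveI : IsIso U.ι := by
    rw [show U.ι = (Scheme.topIso X).hom from rfl]
    infer_instance
  have hρ : ∀ a, QCoh.rhoV f V a = U.ι.appTop (f.appTop a) := fun a => by
    simp only [QCoh.rhoV, Scheme.Hom.appTop, Scheme.Hom.appLE, RingHom.comp_apply]
    rw [show homOfLE U.ι_preimage_self.ge = 𝟙 _ from rfl]
    erw [(U : Scheme.{u}).presheaf.map_id]
    rfl
  letI mP := QCoh.modHH (A := Γ(Spec A, ⊤)) f.appTop.hom ((Coh.push U.ι).obj (G.restrict U.ι)) i
  letI mG := QCoh.modHH (A := Γ(Spec A, ⊤)) f.appTop.hom G i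
  obtain ⟨l₂⟩ := QCoh.HH_push_linear U.ι (A := Γ(Spec A, ⊤)) f.appTop.hom (QCoh.rhoV f V) hρ
    (QCoh.isQCoh_restrict U.ι hq) i
  haveI : IsIso ((Scheme.Modules.restrictAdjunction U.ι).unit.app G) := by
    refine Scheme.Modules.Hom.isIso_iff_isIso_app.2 fun W => ?_
    simp only [Scheme.Modules.restrictAdjunction_unit_app_app]
    have : U.ι ''ᵁ U.ι ⁻¹ᵁ W = W := by
      rw [Scheme.Hom.image_preimage_eq_opensRange_inf, Scheme.Opens.opensRange_ι]
      exact top_inf_eq W
    rw [show (homOfLE (Scheme.Hom.image_preimage_le U.ι W)) = eqToHom this from Subsingleton.elim _ _]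
    infer_instance
  haveI : Module.FinitePresentation Γ(Spec A, ⊤) (Coh.HH X G i) :=
    Module.FinitePresentation.of_equiv (l₂.trans
      (QCoh.HHcongr f.appTop.hom (asIso ((Scheme.Modules.restrictAdjunction U.ι).unit.app G)).symm i))
  letI : Algebra R Γ(Spec A, ⊤) := (Scheme.ΓSpecIso A).inv.hom.toAlgebra
  haveI : IsScalarTower R Γ(Spec A, ⊤) (Coh.HH X G i) := IsScalarTower.of_algebraMap_smul fun _ _ => rfl
  haveI : Module.FinitePresentation R Γ(Spec A, ⊤) :=
    Module.FinitePresentation.of_equiv (LinearEquiv.ofBijective (Algebra.linearMap R Γ(Spec A, ⊤))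
      (Scheme.ΓSpecIso A).symm.commRingCatIsoToRingEquiv.bijective)
  exact Module.FinitePresentation.trans R (Coh.HH X G i) Γ(Spec A, ⊤)

end Groth.Agent.GBC
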