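import Groth.Agent.GBC.Main
import Groth.Agent.KFlatLib.BrutalTrunc
import Groth.Agent.QCoh.RpushModel

/-!
# Base change for bounded above complexes of modules flat over the base
-/

set_option autoImplicit false
set_option linter.style.haveILetI false
set_option backward.isDefEq.respectTransparency false
set_option maxHeartbeats 1600000

universe u

open CategoryTheory CategoryTheory.Limits AlgebraicGeometry TopologicalSpace Pretriangulated

attribute [local instance] HasDerivedCategory.standard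

noncomputable section

namespace Groth.Agent.GBC

open Groth.Agent.KFlatLib Groth.Agent.DQGen Groth.Agent.RBC

attribute [local instance] hasLpull hasRpush_scheme hasLTensorMod hasLTensorCx

variable {X S X' S' : Scheme.{u}} {f : X ⟶ S} {g : S' ⟶ S} {f' : X' ⟶ S'} {g' : X' ⟶ X}

/-- Quasi-coherent and flat over the base. -/
def QFlat (f : X ⟶ S) (M : X.Modules) : Prop := Coh.IsQCoh M ∧ FlatMod.IsFlatOver f M

lemma QFlat.of_iso {M N : X.Modules} (h : QFlat f M) (e : M ≅ N) : QFlat f N :=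
  ⟨KFlatLib.isQCoh_of_iso e h.1, QCoh.isFlatOver_of_iso e h.1 h.2⟩

lemma qFlat_of_isZero {M : X.Modules} (h : IsZero M) : QFlat f M := by
  refine ⟨isQCoh_of_isZero h, fun x => ?_⟩
  haveI : Subsingleton ((DerSch.stalkOver f x).obj M) :=
    ModuleCat.subsingleton_of_isZero ((DerSch.stalkOver f x).map_isZero h)
  change Module.Flat _ ((DerSch.stalkOver f x).obj M : Type u)
  infer_instance

/-- `GBc` at a module flat over the base, in one degree. -/
theorem gbc_single_global [QuasiCompact f] [QuasiSeparated f] (H : IsPullback g' f' f g) {M : X.Modules}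
    (hM : QFlat f M) (k : ℤ) :
    GBc f g f' g' ((HomologicalComplex.single X.Modules (ComplexShape.up ℤ) k).obj M) := by
  let K := (HomologicalComplex.single X.Modules (ComplexShape.up ℤ) k).obj (Coh.structureModule X)
  have hK : DCoh.IsKFlat K := isKFlat_of_isStrictlyLE _ k (isFlat_single k isFlat_structureModule)
  have hO : Coh.IsQCoh (Coh.structureModule X) :=
    QCoh.isQCoh_structureModule
  have hq : DCoh.IsQCohD (DerivedCategory.Q.obj K) :=
    isQCohD_of_iso ((DerivedCategory.singleFunctorIsoCompQ X.Modules k).app _) (isQCohD_sD hO k)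
  refine GBc.of_iso ?_ ((gb_iff hK).1 (gb_main H hM.1 hM.2 _ hq))
  exact (HomologicalComplex.singleMapHomologicalComplex (DCoh.tensorRightMod M) (ComplexShape.up ℤ) k).app
      (Coh.structureModule X) ≪≫
    (HomologicalComplex.single X.Modules (ComplexShape.up ℤ) k).mapIso
      ((Exactness.flipTensorIso M).app _).symm ≪≫
    (HomologicalComplex.single X.Modules (ComplexShape.up ℤ) k).mapIso
      ((((tensorBiFlipIso X).app M).app (Coh.structureModule X)) ≪≫ tensorUnitIso M)

section Theta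

variable {L : DCoh.D S ⥤ DCoh.D X} {R : DCoh.D X ⥤ DCoh.D S} {L' : DCoh.D S' ⥤ DCoh.D X'}
  {R' : DCoh.D X' ⥤ DCoh.D S'} {G : DCoh.D S ⥤ DCoh.D S'}
  (a : L ⊣ R) (a' : L' ⊣ R') (α : G ⋙ L' ≅ L ⋙ DCoh.Lpull g')

/-- The base change map as a natural transformation on complexes. -/
def thetaNat : DerivedCategory.Q ⋙ R ⋙ G ⟶ pullCx g' ⋙ DerivedCategory.Q ⋙ R' where
  app C := (bcM a a' α.hom).app (DerivedCategory.Q.obj C) ≫ R'.map ((lpullComparison g').app C)
  naturality C D φ := by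
    have n₁ := (bcM a a' α.hom).naturality (DerivedCategory.Q.map φ)
    have n₂ := (lpullComparison g').naturality φ
    simp only [Functor.comp_map] at n₁ n₂ ⊢
    erw [reassoc_of% n₁, ← R'.map_comp, n₂, R'.map_comp]
    simp only [Category.assoc]

variable (Hm : DCoh.D S' ⥤ S'.Modules)

/-- The source on the homotopy category. -/
abbrev srcK : HomotopyCategory X.Modules (ComplexShape.up ℤ) ⥤ S'.Modules :=
  DerivedCategory.Qh ⋙ R ⋙ G ⋙ Hm

/-- The target on the homotopy category. -/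
abbrev tgtK : HomotopyCategory X.Modules (ComplexShape.up ℤ) ⥤ S'.Modules :=
  (Scheme.Modules.pullback g').mapHomotopyCategory (ComplexShape.up ℤ) ⋙ DerivedCategory.Qh ⋙ R' ⋙ Hm

/-- The base change map on the homotopy category. -/
def etaK : srcK (R := R) (G := G) Hm ⟶ tgtK (g' := g') (R' := R') Hm :=
  CategoryTheory.Quotient.natTransLift _
    ((Functor.associator _ _ _).inv ≫
      Functor.whiskerRight (DerivedCategory.quotientCompQhIso X.Modules).hom (R ⋙ G ⋙ Hm) ≫
      Functor.whiskerRight (thetaNat (g' := g') a a' α) Hm ≫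
      Functor.whiskerLeft (pullCx g')
        (Functor.whiskerRight (DerivedCategory.quotientCompQhIso X'.Modules).inv (R' ⋙ Hm)))

lemma isIso_etaK_app_iff (C : CochainComplex X.Modules ℤ) :
    IsIso ((etaK a a' α Hm).app ((HomotopyCategory.quotient X.Modules (ComplexShape.up ℤ)).obj C)) ↔
      IsIso (Hm.map ((thetaNat a a' α).app C)) := by
  change IsIso (𝟙 _ ≫ _ ≫ Hm.map ((thetaNat a a' α).app C) ≫ _) ↔ _
  rw [isIso_comp_left_iff, isIso_comp_left_iff, isIso_comp_right_iff]

end Theta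

/-- `GBc` in homological form: all degrees of all shifts. -/
def GBh (f : X ⟶ S) (g : S' ⟶ S) (f' : X' ⟶ S') (g' : X' ⟶ X) (C : CochainComplex X.Modules ℤ) : Prop :=
  ∀ n : ℤ, GBc f g f' g' (C⟦n⟧)

lemma GBh.of_iso {C D : CochainComplex X.Modules ℤ} (e : C ≅ D) (h : GBh f g f' g' C) : GBh f g f' g' D :=
  fun n => (h n).of_iso ((shiftFunctor _ n).mapIso e)

lemma GBh.gbc {C : CochainComplex X.Modules ℤ} (h : GBh f g f' g' C) : GBc f g f' g' C :=
  (h 0).of_iso ((shiftFunctorZero (CochainComplex X.Modules ℤ) ℤ).app C)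

/-- A single module. -/
theorem gbh_single [QuasiCompact f] [QuasiSeparated f] (H : IsPullback g' f' f g) {M : X.Modules}
    (hM : QFlat f M) (k : ℤ) :
    GBh f g f' g' ((HomologicalComplex.single X.Modules (ComplexShape.up ℤ) k).obj M) := fun n =>
  (gbc_single_global H hM (k - n)).of_iso
    (((CochainComplex.singleFunctors X.Modules).shiftIso n (k - n) k (by omega)).app M).symm

section Split

variable {C₁ C₂ C₃ : CochainComplex X.Modules ℤ} (p : C₁ ⟶ C₂) (q : C₂ ⟶ C₃) (w : p ≫ q = 0)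
  (σ : ∀ n, ((ShortComplex.mk p q w).map (HomologicalComplex.eval X.Modules (ComplexShape.up ℤ) n)).Splitting)

include σ in
/-- The middle term of a degreewise split sequence, one degree at a time. -/
theorem isIso_theta_mid {L : DCoh.D S ⥤ DCoh.D X} {R : DCoh.D X ⥤ DCoh.D S} {L' : DCoh.D S' ⥤ DCoh.D X'}
    {R' : DCoh.D X' ⥤ DCoh.D S'} {G : DCoh.D S ⥤ DCoh.D S'}
    (eL : L ≅ DCoh.Lpull f) (eL' : L' ≅ DCoh.Lpull f') (eG : G ≅ DCoh.Lpull g)
    (a : L ⊣ R) (a' : L' ⊣ R') (α : G ⋙ L' ≅ L ⋙ DCoh.Lpull g') (i n : ℤ)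
    (h₁ : ∀ m : ℤ, IsIso ((DerivedCategory.homologyFunctor S'.Modules i).map ((thetaNat a a' α).app (C₁⟦m⟧ : CochainComplex X.Modules ℤ))))
    (h₃ : ∀ m : ℤ, n - 1 ≤ m → m ≤ n →
      IsIso ((DerivedCategory.homologyFunctor S'.Modules i).map ((thetaNat a a' α).app (C₃⟦m⟧ : CochainComplex X.Modules ℤ)))) :
    IsIso ((DerivedCategory.homologyFunctor S'.Modules i).map ((thetaNat a a' α).app (C₂⟦n⟧ : CochainComplex X.Modules ℤ))) := by
  obtain ⟨eR⟩ := nonempty_right_iso eL a
  obtain ⟨eR'⟩ := nonempty_right_iso eL' a'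
  let Hm := DerivedCategory.homologyFunctor S'.Modules i
  haveI := isHomological_lpull_comp g Hm
  haveI := isHomological_rpush_comp f (DCoh.Lpull g ⋙ Hm)
  haveI : (R ⋙ G ⋙ Hm).IsHomological :=
    Functor.IsHomological.of_iso (F₁ := DCoh.Rpush f ⋙ DCoh.Lpull g ⋙ Hm)
      (Functor.isoWhiskerRight eR.symm (DCoh.Lpull g ⋙ Hm) ≪≫
        Functor.isoWhiskerLeft R (Functor.isoWhiskerRight eG.symm Hm))
  haveI := isHomological_rpush_comp f' Hm
  haveI : (R' ⋙ Hm).IsHomological :=
    Functor.IsHomological.of_iso (F₁ := DCoh.Rpush f' ⋙ Hm) (Functor.isoWhiskerRight eR'.symm Hm)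
  haveI : (srcK (R := R) (G := G) Hm).IsHomological :=
    inferInstanceAs (DerivedCategory.Qh ⋙ R ⋙ G ⋙ Hm).IsHomological
  haveI : (DerivedCategory.Qh (C := X'.Modules) ⋙ R' ⋙ Hm).IsHomological := inferInstance
  haveI : (tgtK (g' := g') (R' := R') Hm).IsHomological :=
    inferInstanceAs ((Scheme.Modules.pullback g').mapHomotopyCategory (ComplexShape.up ℤ) ⋙
      DerivedCategory.Qh ⋙ R' ⋙ Hm).IsHomological
  let q₀ := HomotopyCategory.quotient X.Modules (ComplexShape.up ℤ)
  let T := CochainComplex.trianglehOfDegreewiseSplit (ShortComplex.mk p q w) σ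
  have hT : T ∈ distTriang _ :=
    (HomotopyCategory.distinguished_iff_iso_trianglehOfDegreewiseSplit _).2 ⟨_, σ, ⟨Iso.refl _⟩⟩
  have key : ∀ (C : CochainComplex X.Modules ℤ) (m : ℤ), IsIso (Hm.map ((thetaNat a a' α).app (C⟦m⟧ : CochainComplex X.Modules ℤ))) ↔
      IsIso ((etaK a a' α Hm).app ((q₀.obj C)⟦m⟧)) := fun C m =>
    (isIso_etaK_app_iff a a' α Hm (C⟦m⟧)).symm.trans
      (NatTrans.isIso_app_iff_of_iso _ ((q₀.commShiftIso m).app C))
  refine (key C₂ n).2 ?_
  let Tn := (Triangle.shiftFunctor _ n).obj T.invRotate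
  have hTn : Tn ∈ distTriang _ := Triangle.shift_distinguished _ (inv_rot_of_distTriang _ hT) n
  refine isIso_app_obj₃ (etaK a a' α Hm) Tn hTn ?_ ((key C₁ n).1 (h₁ n)) ?_ ?_
  · exact (NatTrans.isIso_app_iff_of_iso _ ((shiftFunctorAdd _ (-1 : ℤ) n).app (q₀.obj C₃))).1
      ((key C₃ (-1 + n)).1 (h₃ _ (by omega) (by omega)))
  · refine (NatTrans.isIso_app_iff_of_iso _ ((shiftFunctorAdd' _ (-1 : ℤ) n (n - 1) (by omega)).app
      (q₀.obj C₃) |> fun e => (shiftFunctorAdd' _ (n - 1) (1 : ℤ) n (by omega)).app (q₀.obj C₃) ≪≫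
        (shiftFunctor _ (1 : ℤ)).mapIso e)).1 ((key C₃ n).1 (h₃ n (by omega) le_rfl))
  · exact (NatTrans.isIso_app_iff_of_iso _ ((shiftFunctorAdd _ n (1 : ℤ)).app (q₀.obj C₁))).1
      ((key C₁ (n + 1)).1 (h₁ _))

include σ in
/-- Two out of three. -/
theorem GBh.mid (h₁ : GBh f g f' g' C₁) (h₃ : GBh f g f' g' C₃) : GBh f g f' g' C₂ := by
  intro n L R L' R' G eL eL' eG a a' α
  refine (DerivedCategory.isIso_iff _ _).2 fun i => ?_
  exact isIso_theta_mid p q w σ eL eL' eG a a' α i n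
    (fun m => (DerivedCategory.isIso_iff _ _).1 (h₁ m L R L' R' G eL eL' eG a a' α) i)
    fun m _ _ => (DerivedCategory.isIso_iff _ _).1 (h₃ m L R L' R' G eL eL' eG a a' α) i

end Split

section Truncation

variable (C : CochainComplex X.Modules ℤ) (m : ℤ)

lemma isZero_sigmaSES_X₃ (n : ℤ) (hn : m ≤ n) : IsZero ((sigmaSES C m).X₃.X n) := by
  haveI := isStrictlyLE_sigmaSES_X₃ C m
  exact CochainComplex.isZero_of_isStrictlyLE _ (m - 1) n (by omega)

/-- The brutal truncation sequence is degreewise split. -/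
def sigmaSplitting (n : ℤ) :
    ((sigmaSES C m).map (HomologicalComplex.eval X.Modules (ComplexShape.up ℤ) n)).Splitting :=
  if h : m ≤ n then
    ShortComplex.Splitting.ofIsIsoOfIsZero _ (isIso_sigmaGEι_f C m n h) (isZero_sigmaSES_X₃ C m n h)
  else
    have hS := (sigmaSES_shortExact C m).map_of_exact (HomologicalComplex.eval X.Modules (ComplexShape.up ℤ) n)
    have h₁ : IsZero ((sigmaSES C m).map (HomologicalComplex.eval X.Modules (ComplexShape.up ℤ) n)).X₁ :=
      isZero_stupidTrunc_of_lt C m n (not_le.1 h)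
    ShortComplex.Splitting.ofIsZeroOfIsIso _ h₁
      (haveI := hS.epi_g; haveI := hS.exact.mono_g (h₁.eq_of_src _ _); isIso_of_mono_of_epi _)

variable {C}

lemma qFlat_sigma_X₁ (hC : ∀ i, QFlat f (C.X i)) (n : ℤ) : QFlat f ((sigmaSES C m).X₁.X n) := by
  rcases lt_or_ge n m with h | h
  · exact qFlat_of_isZero (isZero_stupidTrunc_of_lt C m n h)
  · haveI := isIso_sigmaGEι_f C m n h
    exact (hC n).of_iso (asIso ((sigmaGEι C m).f n)).symm

lemma qFlat_sigma_X₃ (hC : ∀ i, QFlat f (C.X i)) (n : ℤ) : QFlat f ((sigmaSES C m).X₃.X n) := by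
  rcases lt_or_ge n m with h | h
  · exact (hC n).of_iso (nonempty_sigmaSES_X₃_iso C m n h).some
  · exact qFlat_of_isZero (isZero_sigmaSES_X₃ C m n h)

lemma isZero_sigma_X₁ (n : ℤ) (h : n < m ∨ IsZero (C.X n)) : IsZero ((sigmaSES C m).X₁.X n) := by
  rcases lt_or_ge n m with hn | hn
  · exact isZero_stupidTrunc_of_lt C m n hn
  · haveI := isIso_sigmaGEι_f C m n hn
    exact (h.resolve_left (by omega)).of_iso (asIso ((sigmaGEι C m).f n))

lemma isZero_sigma_X₃' (n : ℤ) (h : IsZero (C.X n)) : IsZero ((sigmaSES C m).X₃.X n) := by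
  rcases lt_or_ge n m with hn | hn
  · exact h.of_iso (nonempty_sigmaSES_X₃_iso C m n hn).some.symm
  · exact isZero_sigmaSES_X₃ C m n hn

end Truncation

/-- Bounded complexes. -/
theorem gbh_bounded [QuasiCompact f] [QuasiSeparated f] (H : IsPullback g' f' f g) :
    ∀ (k : ℕ) (b : ℤ) (C : CochainComplex X.Modules ℤ), (∀ i, QFlat f (C.X i)) →
      (∀ i, (i < b - k ∨ b < i) → IsZero (C.X i)) → GBh f g f' g' C := by
  intro k
  induction k with
  | zero =>
    intro b C hC hz
    haveI : C.IsStrictlyGE b := (CochainComplex.isStrictlyGE_iff _ _).2 fun i hi => hz i (Or.inl (by omega))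
    haveI : C.IsStrictlyLE b := (CochainComplex.isStrictlyLE_iff _ _).2 fun i hi => hz i (Or.inr hi)
    obtain ⟨M, ⟨e⟩⟩ := CochainComplex.exists_iso_single C b
    exact (gbh_single H ((hC b).of_iso ((HomologicalComplex.eval _ _ b).mapIso e ≪≫
      HomologicalComplex.singleObjXSelf (ComplexShape.up ℤ) b M)) b).of_iso e.symm
  | succ k ih =>
    intro b C hC hz
    push_cast at hz
    refine GBh.mid (sigmaSES C b).f (sigmaSES C b).g (sigmaSES C b).zero (sigmaSplitting C b)
      (ih b _ (qFlat_sigma_X₁ b hC) fun i hi => isZero_sigma_X₁ b i ?_)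
      (ih (b - 1) _ (qFlat_sigma_X₃ b hC) fun i hi => ?_)
    · by_cases h : i < b
      · exact Or.inl h
      · exact Or.inr (hz i (Or.inr (by omega)))
    · rcases hi with hi | hi
      · exact isZero_sigma_X₃' b i (hz i (Or.inl (by omega)))
      · exact isZero_sigmaSES_X₃ C b i (by omega)

/-- Over an affine base the direct image has bounded amplitude. -/
theorem exists_rpush_amplitude [IsAffine S] (f : X ⟶ S) [QuasiCompact f] [QuasiSeparated f] :
    ∃ N : ℕ, ∀ (K : DCoh.D X), DCoh.IsQCohD K → ∀ (b : ℤ) [K.IsLE b], ((DCoh.Rpush f).obj K).IsLE (b + N) := by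
  haveI : HasInjectiveResolutions X.Modules := hasInjectiveResolutions_modules
  obtain ⟨N, hN⟩ := exists_Rpush_bound_near f (isAffineOpen_top S)
  refine ⟨N, fun K hK b _ => (DerivedCategory.isLE_iff _ _).2 fun i hi => ?_⟩
  exact isZero_of_isZero_restrict _ fun y => ⟨⊤, trivial,
    isZero_restrict_hd_rpush f hK b ⊤ N hN i (by omega)⟩

/-- Bounded above complexes over affine bases. -/
theorem gbc_boundedAbove_affine [IsAffine S] [IsAffine S'] [QuasiCompact f] [QuasiSeparated f]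
    (H : IsPullback g' f' f g) (C : CochainComplex X.Modules ℤ) (hC : ∀ i, QFlat f (C.X i)) (b : ℤ)
    (hb : ∀ i, b < i → IsZero (C.X i)) : GBh f g f' g' C := by
  intro n L R L' R' G eL eL' eG a a' α
  refine (DerivedCategory.isIso_iff _ _).2 fun i => ?_
  obtain ⟨eR⟩ := nonempty_right_iso eL a
  obtain ⟨eR'⟩ := nonempty_right_iso eL' a'
  haveI : QuasiCompact f' := MorphismProperty.of_isPullback H inferInstance
  haveI : QuasiSeparated f' := MorphismProperty.of_isPullback H inferInstance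
  obtain ⟨N, hN⟩ := exists_rpush_amplitude f
  obtain ⟨N', hN'⟩ := exists_rpush_amplitude f'
  let m : ℤ := i + n - N - N' - 1
  let S₀ := sigmaSES C m
  refine isIso_theta_mid S₀.f S₀.g S₀.zero (sigmaSplitting C m) eL eL' eG a a' α i n (fun l => ?_) fun l hl hl' => ?_
  · refine (DerivedCategory.isIso_iff _ _).1 ?_ i
    refine gbh_bounded H (b - m).toNat b _ (qFlat_sigma_X₁ m hC) (fun j hj => isZero_sigma_X₁ m j ?_) l
      L R L' R' G eL eL' eG a a' α
    by_cases h : b < j
    · exact Or.inr (hb j h)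
    · exact Or.inl (by omega)
  · let D : CochainComplex X.Modules ℤ := S₀.X₃⟦l⟧
    have hzD : ∀ j, m - 1 - l < j → IsZero (D.X j) := fun j hj =>
      isZero_sigmaSES_X₃ C m (j + l) (by omega)
    have hqD : ∀ j, Coh.IsQCoh (D.X j) := fun j => (qFlat_sigma_X₃ m hC (j + l)).1
    haveI : D.IsStrictlyLE (m - 1 - l) := (CochainComplex.isStrictlyLE_iff _ _).2 hzD
    haveI : (DerivedCategory.Q.obj D).IsLE (m - 1 - l) := (DerivedCategory.isLE_Q_obj_iff _ _).2 inferInstance
    haveI : ((pullCx g').obj D).IsStrictlyLE (m - 1 - l) :=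
      (CochainComplex.isStrictlyLE_iff _ _).2 fun j hj => (Scheme.Modules.pullback g').map_isZero (hzD j hj)
    haveI : (DerivedCategory.Q.obj ((pullCx g').obj D)).IsLE (m - 1 - l) :=
      (DerivedCategory.isLE_Q_obj_iff _ _).2 inferInstance
    have hq₁ : DCoh.IsQCohD (DerivedCategory.Q.obj D) := (isQCohD_Q_iff _).2 (isQCoh_homology_of_terms D hqD)
    have hq₂ : DCoh.IsQCohD (DerivedCategory.Q.obj ((pullCx g').obj D)) :=
      (isQCohD_Q_iff _).2 (isQCoh_homology_of_terms _ fun j => QCoh.isQCoh_pullback g' (hqD j))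
    haveI := hN _ hq₁ (m - 1 - l)
    haveI := isLE_lpull g ((DCoh.Rpush f).obj (DerivedCategory.Q.obj D)) (m - 1 - l + N)
    haveI := hN' _ hq₂ (m - 1 - l)
    have z₁ : IsZero (DCoh.HD (G.obj (R.obj (DerivedCategory.Q.obj D))) i) :=
      (DerivedCategory.isZero_of_isLE ((DCoh.Lpull g).obj ((DCoh.Rpush f).obj (DerivedCategory.Q.obj D)))
        (m - 1 - l + N) i (by omega)).of_iso
        ((DerivedCategory.homologyFunctor _ i).mapIso (eG.app _ ≪≫ (DCoh.Lpull g).mapIso (eR.app _)))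
    have z₂ : IsZero (DCoh.HD (R'.obj (DerivedCategory.Q.obj ((pullCx g').obj D))) i) :=
      (DerivedCategory.isZero_of_isLE ((DCoh.Rpush f').obj (DerivedCategory.Q.obj ((pullCx g').obj D)))
        (m - 1 - l + N') i (by omega)).of_iso ((DerivedCategory.homologyFunctor _ i).mapIso (eR'.app _))
    exact ⟨⟨0, z₁.eq_of_src _ _, z₂.eq_of_src _ _⟩⟩

/-- Base change for bounded above complexes of quasi-coherent modules flat over the base. -/
theorem gbc_flat [QuasiCompact f] [QuasiSeparated f] (H : IsPullback g' f' f g)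
    (C : CochainComplex X.Modules ℤ) (hq : ∀ i, Coh.IsQCoh (C.X i)) (hfl : ∀ i, FlatMod.IsFlatOver f (C.X i))
    (b : ℤ) (hb : ∀ i, b < i → IsZero (C.X i)) : GBc f g f' g' C := by
  refine gbc_of_local H.w C fun s => ?_
  obtain ⟨_, ⟨(U : S.Opens), hU, rfl⟩, hsU, -⟩ :=
    S.isBasis_affineOpens.exists_subset_of_mem_open (Set.mem_univ (g.base s)) isOpen_univ
  obtain ⟨_, ⟨(W : S'.Opens), hW, rfl⟩, hsW, hle⟩ :=
    S'.isBasis_affineOpens.exists_subset_of_mem_open (show s ∈ ((g ⁻¹ᵁ U : S'.Opens) : Set S') from hsU)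
      (g ⁻¹ᵁ U).isOpen
  refine ⟨U, W, hle, hsW, ?_⟩
  haveI : IsAffine (U : Scheme.{u}) := hU
  haveI : IsAffine (W : Scheme.{u}) := hW
  exact (gbc_boundedAbove_affine (RBC.isPullback_restrict H hle) _
    (fun i => ⟨QCoh.isQCoh_restrict _ (hq i), PushAmp.isFlatOver_morphismRestrict f U (hfl i)⟩) b
    fun i hi => (Scheme.Modules.restrictFunctor _).map_isZero (hb i hi)).gbc

/-- `Lg^* Rf_* C = Rf'_* g'^* C`. -/
theorem nonempty_gbc_iso [QuasiCompact f] [QuasiSeparated f] (H : IsPullback g' f' f g)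
    (C : CochainComplex X.Modules ℤ) (hq : ∀ i, Coh.IsQCoh (C.X i)) (hfl : ∀ i, FlatMod.IsFlatOver f (C.X i))
    (b : ℤ) (hb : ∀ i, b < i → IsZero (C.X i)) [DCoh.HasRpush f] [DCoh.HasRpush f'] [DCoh.HasLpull g] :
    Nonempty ((DCoh.Lpull g).obj ((DCoh.Rpush f).obj (DerivedCategory.Q.obj C)) ≅
      (DCoh.Rpush f').obj (DerivedCategory.Q.obj ((pullCx g').obj C))) := by
  obtain ⟨a⟩ := nonempty_lpull_rpush_adj f
  obtain ⟨a'⟩ := nonempty_lpull_rpush_adj f'
  obtain ⟨α⟩ := nonempty_sq_iso f g f' g' H.w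
  haveI := gbc_flat H C hq hfl b hb _ _ _ _ _ (Iso.refl _) (Iso.refl _) (Iso.refl _) a a' α
  exact ⟨asIso ((bcM a a' α.hom).app _ ≫ (DCoh.Rpush f').map ((lpullComparison g').app C))⟩

end Groth.Agent.GBC
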