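import Groth.Agent.RBC.Main
import Groth.Agent.KFlatLib.Perfect.Basic
import Groth.Agent.Exactness.Functor

/-!
# Natural transformations determined on K-flat complexes; tensor products and restrictions
-/

set_option autoImplicit false
set_option linter.style.haveILetI false
set_option backward.isDefEq.respectTransparency false
set_option backward.isDefEq.respectTransparency.types false
set_option maxHeartbeats 800000

universe u

open CategoryTheory CategoryTheory.Limits AlgebraicGeometry Pretriangulated TopologicalSpace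

attribute [local instance] HasDerivedCategory.standard

noncomputable section

namespace Groth.Agent.GBC

open Groth.Agent.KFlatLib Groth.Agent.DQGen

attribute [local instance] hasLpull hasRpush_scheme

variable {X X' U U' : Scheme.{u}}

/-- Transformations out of the derived category are determined by K-flat complexes. -/
theorem exists_lift_flat {𝒞 : Type*} [Category 𝒞] {F₁ F₂ : DCoh.D X ⥤ 𝒞}
    {H : CochainComplex X.Modules ℤ ⥤ 𝒞} (c₁ : DerivedCategory.Q ⋙ F₁ ⟶ H)
    (c₂ : DerivedCategory.Q ⋙ F₂ ⟶ H) (h₂ : ∀ C, DCoh.IsKFlat C → IsIso (c₂.app C)) :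
    ∃ μ : F₁ ⟶ F₂, ∀ C, μ.app (DerivedCategory.Q.obj C) ≫ c₂.app C = c₁.app C := by
  haveI : ∀ C, IsIso ((Functor.whiskerLeft (kRes X) c₂).app C) := fun C => h₂ _ (isKFlat_kRes C)
  haveI := NatIso.isIso_of_isIso_app (Functor.whiskerLeft (kRes X) c₂)
  let η : DerivedCategory.Q ⋙ F₁ ⟶ DerivedCategory.Q ⋙ F₂ :=
    Functor.whiskerRight (resQIso X).inv F₁ ≫ (Functor.associator _ _ _).hom ≫
      Functor.whiskerLeft (kRes X) c₁ ≫ inv (Functor.whiskerLeft (kRes X) c₂) ≫
      (Functor.associator _ _ _).inv ≫ Functor.whiskerRight (resQIso X).hom F₂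
  let μ := Localization.liftNatTrans DerivedCategory.Q (qisX X) (DerivedCategory.Q ⋙ F₁)
    (DerivedCategory.Q ⋙ F₂) F₁ F₂ η
  refine ⟨μ, fun C => ?_⟩
  let ψ := (flatCover X).ψ.app C
  haveI : IsIso (DerivedCategory.Q.map ψ : DerivedCategory.Q.obj ((kRes X).obj C) ⟶
      (DerivedCategory.Q.obj C : DCoh.D X)) := isIso_Q_map _ ((flatCover X).quasiIso_ψ C)
  have hψ : (resQIso X).hom.app C = DerivedCategory.Q.map ψ := by simp [resQIso, ψ]
  have hμ : μ.app (DerivedCategory.Q.obj C) = η.app C := by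
    simp [μ]
  have n₁ := c₁.naturality ψ
  have n₂ := c₂.naturality ψ
  simp only [Functor.comp_map] at n₁ n₂
  rw [hμ]
  simp only [η, NatTrans.comp_app, Functor.whiskerRight_app, Functor.associator_hom_app,
    Functor.associator_inv_app, Category.id_comp, Category.assoc, hψ]
  erw [n₂]
  have e : (inv (Functor.whiskerLeft (kRes X) c₂)).app C ≫ c₂.app ((kRes X).obj C) = 𝟙 _ :=
    NatTrans.congr_app (IsIso.inv_hom_id (Functor.whiskerLeft (kRes X) c₂)) C
  erw [reassoc_of% e, ← n₁, ← F₁.map_comp_assoc]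
  rw [← hψ, Iso.inv_hom_id_app]
  simp

/-- The invertible version. -/
theorem exists_iso_lift_flat {𝒞 : Type*} [Category 𝒞] {F₁ F₂ : DCoh.D X ⥤ 𝒞}
    {H : CochainComplex X.Modules ℤ ⥤ 𝒞} (c₁ : DerivedCategory.Q ⋙ F₁ ⟶ H)
    (c₂ : DerivedCategory.Q ⋙ F₂ ⟶ H) (h₁ : ∀ C, DCoh.IsKFlat C → IsIso (c₁.app C))
    (h₂ : ∀ C, DCoh.IsKFlat C → IsIso (c₂.app C)) :
    ∃ μ : F₁ ≅ F₂, ∀ C, μ.hom.app (DerivedCategory.Q.obj C) ≫ c₂.app C = c₁.app C := by
  obtain ⟨μ, hμ⟩ := exists_lift_flat c₁ c₂ h₂
  haveI : ∀ E, IsIso (μ.app E) := fun E => by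
    refine (NatTrans.isIso_app_iff_of_iso μ (repKIso E)).1 ?_
    haveI := h₁ _ (isKFlat_repK E)
    haveI := h₂ _ (isKFlat_repK E)
    haveI : IsIso (μ.app (DerivedCategory.Q.obj (repK E)) ≫ c₂.app (repK E)) := by
      rw [hμ]; infer_instance
    exact IsIso.of_isIso_comp_right (μ.app (DerivedCategory.Q.obj (repK E))) (c₂.app (repK E))
  haveI := NatIso.isIso_of_isIso_app μ
  exact ⟨asIso μ, hμ⟩

/-- Pullback of `- ⊗ G`. -/
def pullTensorModIso (g : X' ⟶ X) (G : X.Modules) :
    DCoh.tensorRightMod G ⋙ Scheme.Modules.pullback g ≅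
      Scheme.Modules.pullback g ⋙ DCoh.tensorRightMod ((Scheme.Modules.pullback g).obj G) :=
  Functor.isoWhiskerRight (Exactness.flipTensorIso G).symm _ ≪≫
    NatIso.ofComponents (F := DCoh.tensorBi.flip.obj G ⋙ Scheme.Modules.pullback g)
      (G := Scheme.Modules.pullback g ⋙ DCoh.tensorBi.flip.obj ((Scheme.Modules.pullback g).obj G))
      (fun M => ((pullTensorBiIso g).app M).app G)
      (fun {M M'} φ => NatTrans.congr_app ((pullTensorBiIso g).hom.naturality φ) G) ≪≫
    Functor.isoWhiskerLeft _ (Exactness.flipTensorIso _)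

/-- Restriction of `- ⊗ G`. -/
def restrictTensorModIso (j : U ⟶ X) [IsOpenImmersion j] (G : X.Modules) :
    DCoh.tensorRightMod G ⋙ Scheme.Modules.restrictFunctor j ≅
      Scheme.Modules.restrictFunctor j ⋙
        DCoh.tensorRightMod ((Scheme.Modules.restrictFunctor j).obj G) :=
  Functor.isoWhiskerRight (Exactness.flipTensorIso G).symm _ ≪≫
    NatIso.ofComponents (F := DCoh.tensorBi.flip.obj G ⋙ Scheme.Modules.restrictFunctor j)
      (G := Scheme.Modules.restrictFunctor j ⋙ DCoh.tensorBi.flip.obj ((Scheme.Modules.restrictFunctor j).obj G))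
      (fun M => ((restrictTensorBiIso j).app M).app G)
      (fun {M M'} φ => NatTrans.congr_app ((restrictTensorBiIso j).hom.naturality φ) G) ≪≫
    Functor.isoWhiskerLeft _ (Exactness.flipTensorIso _)

/-- Restriction of `K ⊗ G`. -/
def rCxTensorIso (j : U ⟶ X) [IsOpenImmersion j] (G : X.Modules) (K : CochainComplex X.Modules ℤ) :
    (rCx j).obj ((tensorModCx G).obj K) ≅
      (tensorModCx ((Scheme.Modules.restrictFunctor j).obj G)).obj ((rCx j).obj K) :=
  ((NatIso.mapHomologicalComplex (restrictTensorModIso j G) (ComplexShape.up ℤ)).app K)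

/-- Pullback of `K ⊗ G`. -/
def pullCxTensorIso (g : X' ⟶ X) (G : X.Modules) (K : CochainComplex X.Modules ℤ) :
    (pullCx g).obj ((tensorModCx G).obj K) ≅
      (tensorModCx ((Scheme.Modules.pullback g).obj G)).obj ((pullCx g).obj K) :=
  ((NatIso.mapHomologicalComplex (pullTensorModIso g G) (ComplexShape.up ℤ)).app K)

/-- Restrictions of pullbacks of modules, for a commutative square. -/
def restrictPullIso' (g : X' ⟶ X) (j : U ⟶ X) [IsOpenImmersion j] (j' : U' ⟶ X') [IsOpenImmersion j']
    (h : U' ⟶ U) (w : h ≫ j = j' ≫ g) :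
    Scheme.Modules.pullback g ⋙ Scheme.Modules.restrictFunctor j' ≅
      Scheme.Modules.restrictFunctor j ⋙ Scheme.Modules.pullback h :=
  Functor.isoWhiskerLeft _ (Scheme.Modules.restrictFunctorIsoPullback j') ≪≫
    Scheme.Modules.pullbackComp j' g ≪≫ Scheme.Modules.pullbackCongr w.symm ≪≫
    (Scheme.Modules.pullbackComp h j).symm ≪≫
    Functor.isoWhiskerRight (Scheme.Modules.restrictFunctorIsoPullback j).symm _

/-- Restriction commutes with derived pullback, compatibly with the comparisons with pullback. -/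
theorem exists_resIso (g : X' ⟶ X) (j : U ⟶ X) [IsOpenImmersion j] (j' : U' ⟶ X') [IsOpenImmersion j']
    (h : U' ⟶ U) (w : h ≫ j = j' ≫ g) :
    ∃ (α : DCoh.Lpull g ⋙ rho j' ≅ rho j ⋙ DCoh.Lpull h)
      (σ : pullCx g ⋙ rCx j' ≅ rCx j ⋙ pullCx h), ∀ C,
      α.hom.app (DerivedCategory.Q.obj C) ≫ (DCoh.Lpull h).map ((rhoQ j).hom.app C) ≫
          (lpullComparison h).app ((rCx j).obj C) =
        (rho j').map ((lpullComparison g).app C) ≫ (rhoQ j').hom.app ((pullCx g).obj C) ≫
          DerivedCategory.Q.map (σ.hom.app C) := by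
  let σ : pullCx g ⋙ rCx j' ≅ rCx j ⋙ pullCx h :=
    NatIso.ofComponents (fun C => (NatIso.mapHomologicalComplex (restrictPullIso' g j j' h w)
      (ComplexShape.up ℤ)).app C) (fun φ => (NatIso.mapHomologicalComplex (restrictPullIso' g j j' h w)
      (ComplexShape.up ℤ)).hom.naturality φ)
  let c₁ : DerivedCategory.Q ⋙ (DCoh.Lpull g ⋙ rho j') ⟶ (rCx j ⋙ pullCx h) ⋙ DerivedCategory.Q :=
    { app := fun C => (rho j').map ((lpullComparison g).app C) ≫ (rhoQ j').hom.app ((pullCx g).obj C) ≫
          DerivedCategory.Q.map (σ.hom.app C)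
      naturality := fun C C' φ => by
        have n₁ := (lpullComparison g).naturality φ
        have n₂ := (rhoQ j').hom.naturality ((pullCx g).map φ)
        have n₃ := σ.hom.naturality φ
        simp only [Functor.comp_map] at n₁ n₂ n₃ ⊢
        erw [← Functor.map_comp_assoc, n₁, Functor.map_comp_assoc, reassoc_of% n₂, ← Functor.map_comp, n₃]
        simp only [Category.assoc, Functor.map_comp] }
  let c₂ : DerivedCategory.Q ⋙ (rho j ⋙ DCoh.Lpull h) ⟶ (rCx j ⋙ pullCx h) ⋙ DerivedCategory.Q :=
    { app := fun C => (DCoh.Lpull h).map ((rhoQ j).hom.app C) ≫ (lpullComparison h).app ((rCx j).obj C)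
      naturality := fun C C' φ => by
        have n₁ := (rhoQ j).hom.naturality φ
        have n₂ := (lpullComparison h).naturality ((rCx j).map φ)
        simp only [Functor.comp_map] at n₁ n₂ ⊢
        erw [← Functor.map_comp_assoc, n₁, Functor.map_comp_assoc, n₂]
        simp only [Category.assoc] }
  obtain ⟨α, hα⟩ := exists_iso_lift_flat c₁ c₂
    (fun C hC => by
      haveI := isIso_lpullComparison g hC
      change IsIso (_ ≫ _ ≫ _)
      infer_instance)
    (fun C hC => by
      haveI := isIso_lpullComparison h (isKFlat_restrict j hC)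
      change IsIso (_ ≫ _)
      infer_instance)
  exact ⟨α, σ, hα⟩

variable (g : X' ⟶ X) (G : X.Modules)

lemma kRespects_tensorPull : KRespects (tensorModCx G ⋙ pullCx g) := fun P Q α hα hP hQ => by
  haveI := hα
  haveI := quasiIso_pullback g α hP hQ
  haveI := quasiIso_tensorRightMod ((Scheme.Modules.pullback g).obj G) ((pullCx g).map α)
    (isKFlat_pullback g hP) (isKFlat_pullback g hQ)
  exact (quasiIso_iff_of_arrow_mk_iso ((tensorModCx G ⋙ pullCx g).map α)
    ((tensorModCx ((Scheme.Modules.pullback g).obj G)).map ((pullCx g).map α))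
    (Arrow.isoMk (pullCxTensorIso g G P) (pullCxTensorIso g G Q)
      ((NatIso.mapHomologicalComplex (pullTensorModIso g G) (ComplexShape.up ℤ)).hom.naturality α).symm)).2
    inferInstance

/-- `E ↦ Lg^*E ⊗^L g^*G`, as a functor. -/
abbrev pullTensorD : DCoh.D X ⥤ DCoh.D X' := kLift (kRespects_tensorPull g G)

attribute [local instance] hasLTensorMod

/-- The comparison `Lg^*(E ⊗^L G) ⟶ Lg^*E ⊗^L g^*G`. -/
theorem exists_mu : ∃ μ : DCoh.LTensorMod G ⋙ DCoh.Lpull g ⟶ pullTensorD g G, ∀ C,
    μ.app (DerivedCategory.Q.obj C) ≫ (kLiftε (kRespects_tensorPull g G)).app C =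
      (DCoh.Lpull g).map ((ltensorModComparison G).app C) ≫
        (lpullComparison g).app ((tensorModCx G).obj C) :=
  exists_lift_flat (H := (tensorModCx G ⋙ pullCx g) ⋙ DerivedCategory.Q)
    (show DerivedCategory.Q ⋙ (DCoh.LTensorMod G ⋙ DCoh.Lpull g) ⟶
        (tensorModCx G ⋙ pullCx g) ⋙ DerivedCategory.Q from
      { app := fun C => (DCoh.Lpull g).map ((ltensorModComparison G).app C) ≫
          (lpullComparison g).app ((tensorModCx G).obj C)
        naturality := fun C C' φ => by
          have n₁ := (ltensorModComparison G).naturality φ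
          have n₂ := (lpullComparison g).naturality ((tensorModCx G).map φ)
          simp only [Functor.comp_map] at n₁ n₂ ⊢
          erw [← Functor.map_comp_assoc, n₁, Functor.map_comp_assoc, n₂]
          simp only [Category.assoc] })
    (kLiftε (kRespects_tensorPull g G)) fun C hC => isIso_kLiftε _ hC

/-- The chosen comparison. -/
def mu : DCoh.LTensorMod G ⋙ DCoh.Lpull g ⟶ pullTensorD g G := (exists_mu g G).choose

lemma mu_spec (C : CochainComplex X.Modules ℤ) :
    (mu g G).app (DerivedCategory.Q.obj C) ≫ (kLiftε (kRespects_tensorPull g G)).app C =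
      (DCoh.Lpull g).map ((ltensorModComparison G).app C) ≫
        (lpullComparison g).app ((tensorModCx G).obj C) :=
  (exists_mu g G).choose_spec C

/-- `pullTensorD` is the derived tensor product of the derived pullback. -/
theorem nonempty_pullTensorD_iso (E : DCoh.D X) :
    Nonempty ((pullTensorD g G).obj E ≅
      (DCoh.LTensorMod ((Scheme.Modules.pullback g).obj G)).obj ((DCoh.Lpull g).obj E)) := by
  let K := repK E
  have hK : DCoh.IsKFlat K := isKFlat_repK E
  haveI := isIso_kLiftε (kRespects_tensorPull g G) hK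
  haveI := isIso_ltensorModComparison ((Scheme.Modules.pullback g).obj G) (isKFlat_pullback g hK)
  exact ⟨(pullTensorD g G).mapIso (repKIso E).symm ≪≫
    asIso ((kLiftε (kRespects_tensorPull g G)).app K) ≪≫
    DerivedCategory.Q.mapIso (pullCxTensorIso g G K) ≪≫
    (asIso ((ltensorModComparison ((Scheme.Modules.pullback g).obj G)).app ((pullCx g).obj K))).symm ≪≫
    (DCoh.LTensorMod _).mapIso (lpullRepIso g E)⟩

end Groth.Agent.GBC
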