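import Groth.Agent.GBC.Formal

/-!
# Base change for `E ⊗^L G`: opens of the source and of the bases
-/

set_option autoImplicit false
set_option linter.style.haveILetI false
set_option backward.isDefEq.respectTransparency false
set_option backward.isDefEq.respectTransparency.types false
set_option maxHeartbeats 800000
set_option synthInstance.maxHeartbeats 400000

universe u

open CategoryTheory CategoryTheory.Limits AlgebraicGeometry Pretriangulated TopologicalSpace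

attribute [local instance] HasDerivedCategory.standard

noncomputable section

namespace Groth.Agent.GBC

open Groth.Agent.KFlatLib Groth.Agent.DQGen Groth.Agent.RBC

attribute [local instance] hasLpull hasRpush_scheme hasLTensorMod hasLTensorCx

variable {X S X' S' : Scheme.{u}} {f : X ⟶ S} {g : S' ⟶ S} {f' : X' ⟶ S'} {g' : X' ⟶ X}

/-- Objects isomorphic to a pushforward from an open are their own pushforwards. -/
lemma isIso_unit_of_iso {U : Scheme.{u}} (j : U ⟶ X) [IsOpenImmersion j] {K : DCoh.D X} {F : DCoh.D U}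
    (e : K ≅ (DCoh.Rpush j).obj F) : IsIso ((DQGen.adj j).unit.app K) := by
  refine (NatTrans.isIso_app_iff_of_iso (DQGen.adj j).unit e).2 ?_
  haveI : IsIso ((DQGen.adj j).unit.app ((DCoh.Rpush j).obj F) ≫
      (DCoh.Rpush j).map ((DQGen.adj j).counit.app F)) := by
    rw [(DQGen.adj j).right_triangle_components]
    exact IsIso.id _
  exact IsIso.of_isIso_comp_right ((DQGen.adj j).unit.app ((DCoh.Rpush j).obj F))
    ((DCoh.Rpush j).map ((DQGen.adj j).counit.app F))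

/-- The property from an open of the source. -/
theorem gbc_of_open (W : X.Opens) (C : CochainComplex X.Modules ℤ)
    (h : GBc (W.ι ≫ f) g ((g' ⁻¹ᵁ W).ι ≫ f') (g' ∣_ W) ((rCx W.ι).obj C))
    (hη : IsIso ((DQGen.adj W.ι).unit.app (DerivedCategory.Q.obj C)))
    (hη' : IsIso ((DQGen.adj (g' ⁻¹ᵁ W).ι).unit.app (DerivedCategory.Q.obj ((pullCx g').obj C)))) :
    GBc f g f' g' C := by
  intro L R L' R' G eL eL' eG a a' α
  let j := W.ι
  let j' := (g' ⁻¹ᵁ W).ι
  let gW := g' ∣_ W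
  let b := DQGen.adj j
  let b' := DQGen.adj j'
  obtain ⟨β, σ, hβ⟩ := exists_resIso g' j j' gW (morphismRestrict_ι g' W)
  obtain ⟨r⟩ := nonempty_lpull_rho j
  obtain ⟨r'⟩ := nonempty_lpull_rho j'
  obtain ⟨e₁⟩ := nonempty_lpull_comp' (h := j) (i := f) rfl
  obtain ⟨e₁'⟩ := nonempty_lpull_comp' (h := j') (i := f') rfl
  haveI : ∀ K, IsIso ((vPaste α.hom β.hom).app K) := fun K => by
    rw [vPaste_app]
    infer_instance
  haveI := NatIso.isIso_of_isIso_app (vPaste α.hom β.hom)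
  let bc := bcM (a.comp b) (a'.comp b') (vPaste α.hom β.hom)
  let K : DCoh.D X := DerivedCategory.Q.obj C
  let Fc : DCoh.D (W : Scheme.{u}) := DerivedCategory.Q.obj ((rCx j).obj C)
  have h' : IsIso (bc.app Fc ≫ (DCoh.Rpush j' ⋙ R').map ((lpullComparison gW).app ((rCx j).obj C))) :=
    h (L ⋙ rho j) (DCoh.Rpush j ⋙ R) (L' ⋙ rho j') (DCoh.Rpush j' ⋙ R') G
      (Functor.isoWhiskerRight eL _ ≪≫ Functor.isoWhiskerLeft _ r.symm ≪≫ e₁)
      (Functor.isoWhiskerRight eL' _ ≪≫ Functor.isoWhiskerLeft _ r'.symm ≪≫ e₁') eG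
      (a.comp b) (a'.comp b') (asIso (vPaste α.hom β.hom))
  have n₁ : G.map ((DCoh.Rpush j ⋙ R).map ((rhoQ j).hom.app C)) ≫ bc.app Fc =
      bc.app ((rho j).obj K) ≫ R'.map ((DCoh.Rpush j').map ((DCoh.Lpull gW).map ((rhoQ j).hom.app C))) :=
    bc.naturality ((rhoQ j).hom.app C)
  have n₂ := (bcM a a' α.hom).naturality (b.unit.app K)
  simp only [Functor.comp_map] at n₂
  have u₁ : (DCoh.Lpull g').map (b.unit.app K) ≫ (bcM b b' β.hom).app ((rho j).obj K) =
      b'.unit.app ((DCoh.Lpull g').obj K) ≫ (DCoh.Rpush j').map (β.hom.app K) :=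
    map_unit_bcM b b' β.hom K
  have u₂ := b'.unit.naturality ((lpullComparison g').app C)
  simp only [Functor.id_map, Functor.comp_map] at u₂
  have vp := bcM_vPaste a a' α.hom b b' β.hom ((rho j).obj K)
  let ε : (rho j').obj (DerivedCategory.Q.obj ((pullCx g').obj C)) ⟶
      DerivedCategory.Q.obj ((pullCx gW).obj ((rCx j).obj C)) :=
    (rhoQ j').hom.app ((pullCx g').obj C) ≫ DerivedCategory.Q.map (σ.hom.app C)
  have hε : β.hom.app K ≫ (DCoh.Lpull gW).map ((rhoQ j).hom.app C) ≫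
      (lpullComparison gW).app ((rCx j).obj C) = (rho j').map ((lpullComparison g').app C) ≫ ε := hβ C
  let θ := (bcM a a' α.hom).app K ≫ R'.map ((lpullComparison g').app C)
  have key : G.map (R.map (b.unit.app K)) ≫ G.map ((DCoh.Rpush j ⋙ R).map ((rhoQ j).hom.app C)) ≫
        bc.app Fc ≫ R'.map ((DCoh.Rpush j').map ((lpullComparison gW).app ((rCx j).obj C))) =
      θ ≫ R'.map (b'.unit.app _ ≫ (DCoh.Rpush j').map ε) := by
    erw [reassoc_of% n₁, ← R'.map_comp, ← (DCoh.Rpush j').map_comp]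
    erw [vp]
    simp only [Category.assoc]
    erw [reassoc_of% n₂]
    simp only [θ, Category.assoc, ← R'.map_comp]
    refine congrArg ((bcM a a' α.hom).app K ≫ ·) (congrArg R'.map ?_)
    erw [reassoc_of% u₁, ← (DCoh.Rpush j').map_comp, hε, (DCoh.Rpush j').map_comp, ← reassoc_of% u₂]
  haveI : IsIso ε := by
    haveI : IsIso (DerivedCategory.Q.map (σ.hom.app C)) := inferInstance
    exact IsIso.comp_isIso' inferInstance inferInstance
  haveI := hη
  haveI := hη'
  haveI : IsIso (bc.app Fc ≫ R'.map ((DCoh.Rpush j').map ((lpullComparison gW).app ((rCx j).obj C)))) := h'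
  haveI : IsIso (θ ≫ R'.map (b'.unit.app _ ≫ (DCoh.Rpush j').map ε)) := key ▸ inferInstance
  exact (isIso_comp_right_iff θ (R'.map (b'.unit.app _ ≫ (DCoh.Rpush j').map ε))).1 inferInstance

/-- The property may be checked over small opens of both bases. -/
theorem gbc_of_local (w : g' ≫ f = f' ≫ g) (C : CochainComplex X.Modules ℤ)
    (h : ∀ s : S', ∃ (U : S.Opens) (W : S'.Opens) (hle : W ≤ g ⁻¹ᵁ U), s ∈ W ∧
      GBc (f ∣_ U) (g.resLE U W hle) (f' ∣_ W) (g'.resLE (f ⁻¹ᵁ U) (f' ⁻¹ᵁ W) (RBC.preimage_le w hle))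
        ((rCx (f ⁻¹ᵁ U).ι).obj C)) :
    GBc f g f' g' C := by
  intro L R L' R' G eL eL' eG a a' α
  refine isIso_of_local _ fun s => ?_
  obtain ⟨U, W, hle, hsW, hbc⟩ := h s
  refine ⟨W, hsW, ?_⟩
  let h₁ := g.resLE U W hle
  let h₁' := g'.resLE (f ⁻¹ᵁ U) (f' ⁻¹ᵁ W) (RBC.preimage_le w hle)
  let jU := (f ⁻¹ᵁ U).ι
  let jW := (f' ⁻¹ᵁ W).ι
  obtain ⟨i', σ, hi'⟩ := exists_resIso g' jU jW h₁' (Scheme.Hom.resLE_comp_ι g' (RBC.preimage_le w hle))
  obtain ⟨rU⟩ := nonempty_lpull_rho jU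
  obtain ⟨rW⟩ := nonempty_lpull_rho jW
  let Gi := DCoh.Lpull U.ι
  let Gh := DCoh.Lpull h₁
  obtain ⟨aU⟩ := nonempty_lpull_rpush_adj (f ∣_ U)
  obtain ⟨aW⟩ := nonempty_lpull_rpush_adj (f' ∣_ W)
  obtain ⟨αk₀⟩ := nonempty_sq_iso f' W.ι (f' ∣_ W) jW (morphismRestrict_ι f' W).symm
  let αk : DCoh.Lpull W.ι ⋙ DCoh.Lpull (f' ∣_ W) ≅ L' ⋙ rho jW :=
    αk₀ ≪≫ Functor.isoWhiskerRight eL'.symm _ ≪≫ Functor.isoWhiskerLeft _ rW
  let bk := bcM a' aW αk.hom
  have hk : ∀ E, IsIso (bk.app E) := fun E =>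
    bc_open f' W E L' R' _ _ _ _ eL' (Iso.refl _) (Iso.refl _) rW.symm a' aW αk
  obtain ⟨i₁⟩ := nonempty_lpull_comp' (h := W.ι) (i := g) rfl
  obtain ⟨i₂⟩ := nonempty_lpull_comp' (k := W.ι ≫ g) (Scheme.Hom.resLE_comp_ι g hle)
  let i : G ⋙ DCoh.Lpull W.ι ≅ Gi ⋙ Gh := Functor.isoWhiskerRight eG _ ≪≫ i₁ ≪≫ i₂.symm
  let αt : (Gi ⋙ Gh) ⋙ DCoh.Lpull (f' ∣_ W) ⟶ L ⋙ (rho jU ⋙ DCoh.Lpull h₁') :=
    trG (hPaste α.hom αk.hom) i i'
  haveI : ∀ K, IsIso (αt.app K) := fun K => by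
    simp only [αt, trG, hPaste_app, NatTrans.comp_app, Functor.whiskerRight_app, Functor.whiskerLeft_app]
    infer_instance
  obtain ⟨αi₀⟩ := nonempty_sq_iso f U.ι (f ∣_ U) jU (morphismRestrict_ι f U).symm
  let αi : Gi ⋙ DCoh.Lpull (f ∣_ U) ≅ L ⋙ rho jU :=
    αi₀ ≪≫ Functor.isoWhiskerRight eL.symm _ ≪≫ Functor.isoWhiskerLeft _ rU
  obtain ⟨cU₀⟩ := nonempty_lpull_rpush_adj U.ι
  haveI := isIso_counit_of_open U.ι (Iso.refl (DCoh.Lpull U.ι)) cU₀
  let Gh' := DCoh.Lpull h₁'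
  let θ₀ : Gi ⋙ (Gh ⋙ DCoh.Lpull (f' ∣_ W)) ⟶ Gi ⋙ (DCoh.Lpull (f ∣_ U) ⋙ Gh') :=
    { app := fun K => αt.app K ≫ Gh'.map (αi.inv.app K)
      naturality := fun K K' φ => by
        have h₁ := αt.naturality φ
        have h₂ := αi.inv.naturality φ
        simp only [Functor.comp_map] at h₁ h₂ ⊢
        erw [reassoc_of% h₁]
        simp only [Category.assoc]
        refine congrArg (αt.app K ≫ ·) ?_
        erw [← Gh'.map_comp, h₂]
        exact Gh'.map_comp _ _ }
  haveI : ∀ K, IsIso (θ₀.app K) := fun K => by dsimp only [θ₀]; infer_instance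
  let δ := descendNat cU₀ θ₀
  haveI : ∀ K, IsIso (δ.app K) := fun K => by dsimp only [δ, descendNat]; infer_instance
  haveI : IsIso δ := NatIso.isIso_of_isIso_app δ
  have hαt : αt = hPaste αi.hom δ := by
    ext K
    rw [hPaste_app, descendNat_app]
    simp only [θ₀, Category.assoc, ← Functor.map_comp, Iso.inv_hom_id_app]
    erw [CategoryTheory.Functor.map_id, Category.comp_id]
  let K : DCoh.D X := DerivedCategory.Q.obj C
  let CU := (rCx jU).obj C
  let bδ := bcM aU aW δ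
  let bi := bcM a aU αi.hom
  let RW := DCoh.Rpush (f' ∣_ W)
  have hh : IsIso (bδ.app (DerivedCategory.Q.obj CU) ≫ RW.map ((lpullComparison h₁').app CU)) :=
    hbc _ _ _ _ _ (Iso.refl _) (Iso.refl _) (Iso.refl _) aU aW (asIso δ)
  haveI hi : IsIso (bi.app K) :=
    bc_open f U K L R _ _ _ _ eL (Iso.refl _) (Iso.refl _) rU.symm a aU αi
  haveI hl : IsIso (bδ.app ((rho jU).obj K) ≫
      RW.map (Gh'.map ((rhoQ jU).hom.app C) ≫ (lpullComparison h₁').app CU)) := by
    have n := bδ.naturality ((rhoQ jU).hom.app C)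
    simp only [Functor.comp_map] at n
    rw [RW.map_comp]
    erw [← reassoc_of% n]
    haveI := hh
    infer_instance
  have hp := bcM_hPaste a a' α.hom aW αk.hom K
  have ht := bcM_trG a aW (hPaste α.hom αk.hom) i i' K
  have ht2 : (bcM a aW αt).app K = Gh.map (bi.app K) ≫ bδ.app ((rho jU).obj K) := by
    rw [hαt]; exact bcM_hPaste a aU αi.hom aW δ K
  let ε : (rho jW).obj (DerivedCategory.Q.obj ((pullCx g').obj C)) ⟶
      DerivedCategory.Q.obj ((pullCx h₁').obj CU) :=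
    (rhoQ jW).hom.app ((pullCx g').obj C) ≫ DerivedCategory.Q.map (σ.hom.app C)
  have hε : i'.hom.app K ≫ Gh'.map ((rhoQ jU).hom.app C) ≫ (lpullComparison h₁').app CU =
      (rho jW).map ((lpullComparison g').app C) ≫ ε := hi' C
  let θ := (bcM a a' α.hom).app K ≫ R'.map ((lpullComparison g').app C)
  have hn : (DCoh.Lpull W.ι).map (R'.map ((lpullComparison g').app C)) ≫ bk.app _ =
      bk.app _ ≫ RW.map ((rho jW).map ((lpullComparison g').app C)) :=
    bk.naturality ((lpullComparison g').app C)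
  have key : ((DCoh.Lpull W.ι).map θ ≫ bk.app _) ≫ RW.map ε =
      i.hom.app (R.obj K) ≫ Gh.map (bi.app K) ≫
        (bδ.app ((rho jU).obj K) ≫ RW.map (Gh'.map ((rhoQ jU).hom.app C) ≫ (lpullComparison h₁').app CU)) := by
    simp only [θ, Functor.map_comp, Category.assoc]
    erw [reassoc_of% hn, ← RW.map_comp, ← hε, RW.map_comp]
    erw [← reassoc_of% hp]
    erw [← reassoc_of% ht]
    erw [ht2]
    simp only [Functor.map_comp, Category.assoc]
  haveI : IsIso ε := by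
    haveI : IsIso (DerivedCategory.Q.map (σ.hom.app C)) := inferInstance
    exact IsIso.comp_isIso' inferInstance inferInstance
  have h1 : IsIso (((DCoh.Lpull W.ι).map θ ≫ bk.app _) ≫ RW.map ε) :=
    key ▸ IsIso.comp_isIso' inferInstance (IsIso.comp_isIso' inferInstance hl)
  haveI := hk (DerivedCategory.Q.obj ((pullCx g').obj C))
  have h2 : IsIso ((DCoh.Lpull W.ι).map θ ≫ bk.app (DerivedCategory.Q.obj ((pullCx g').obj C))) :=
    (isIso_comp_right_iff _ (RW.map ε)).1 h1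
  exact (isIso_comp_right_iff _ _).1 h2

end Groth.Agent.GBC
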