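import Groth.Agent.GBC.Affine
import Groth.Agent.GBC.Push
import Groth.Agent.RBC.Main
import Groth.Agent.RBC.Apps

/-!
# Base change for `E ⊗^L G` with `G` flat over the base
-/

set_option autoImplicit false
set_option linter.style.haveILetI false
set_option backward.isDefEq.respectTransparency false
set_option backward.isDefEq.respectTransparency.types false
set_option maxHeartbeats 800000
set_option synthInstance.maxHeartbeats 400000

universe u

open CategoryTheory CategoryTheory.Limits AlgebraicGeometry Pretriangulated TopologicalSpace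

attribute [local instance] HasDerivedCategory.standard

noncomputable section

namespace Groth.Agent.GBC

open Groth.Agent.KFlatLib Groth.Agent.DQGen Groth.Agent.RBC

attribute [local instance] hasLpull hasRpush_scheme hasLTensorMod hasLTensorCx

variable {X S X' S' : Scheme.{u}} {f : X ⟶ S} {g : S' ⟶ S} {f' : X' ⟶ S'} {g' : X' ⟶ X} {M : X.Modules}

/-- Restrictions of modules flat over the base. -/
lemma isFlatOver_restrict_comp {U : Scheme.{u}} (j : U ⟶ X) [IsOpenImmersion j]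
    (h : FlatMod.IsFlatOver f M) :
    FlatMod.IsFlatOver (j ≫ f) ((Scheme.Modules.restrictFunctor j).obj M) := fun u => by
  obtain ⟨e⟩ := PushAmp.nonempty_stalkOver_iso j f u
  change Module.Flat _ ((DerSch.stalkOver (j ≫ f) u).obj ((Scheme.Modules.restrictFunctor j).obj M))
  haveI : Module.Flat _ ((DerSch.stalkOver f (j.base u)).obj M) := h (j.base u)
  exact @Module.Flat.of_linearEquiv _ _ _ _ _ _ _ _ this (e.app M).toLinearEquiv

/-- `Rj_*F ⊗^L N` is a pushforward from the open. -/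
theorem nonempty_tensor_rpush {U : Scheme.{u}} (j : U ⟶ X) [IsOpenImmersion j] [QuasiCompact j]
    {N : X.Modules} (hN : Coh.IsQCoh N) {F : DCoh.D U} (hF : DCoh.IsQCohD F) :
    ∃ F' : DCoh.D U, Nonempty ((DCoh.LTensorMod N).obj ((DCoh.Rpush j).obj F) ≅ (DCoh.Rpush j).obj F') := by
  let K := (HomologicalComplex.single X.Modules (ComplexShape.up ℤ) 0).obj N
  obtain ⟨μ⟩ := nonempty_ltensorMod_iso_cx N
  obtain ⟨r⟩ := nonempty_lpull_rho j
  obtain ⟨e⟩ := nonempty_projection_DQCoh j F hF K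
    (isQCohD_of_iso ((DerivedCategory.singleFunctorIsoCompQ X.Modules 0).app N) (isQCohD_sD hN 0))
    ((rCx j).obj K) ⟨((rhoQ j).app K).symm ≪≫ (r.app _).symm⟩
  exact ⟨_, ⟨μ.app _ ≪≫ e⟩⟩

/-- `GB` at a direct image from a quasi-compact open. -/
theorem gb_rpush [QuasiSeparatedSpace X] (W : X.Opens) (hW : IsCompact (W : Set X))
    (H : IsPullback g' f' f g) (hM : Coh.IsQCoh M) {F : DCoh.D (W : Scheme.{u})} (hF : DCoh.IsQCohD F)
    (h : GB (W.ι ≫ f) g ((g' ⁻¹ᵁ W).ι ≫ f') (g' ∣_ W) ((Scheme.Modules.restrictFunctor W.ι).obj M) F) :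
    GB f g f' g' M ((DCoh.Rpush W.ι).obj F) := by
  haveI : CompactSpace (W : Scheme.{u}) := isCompact_iff_compactSpace.1 hW
  haveI : QuasiCompact W.ι := quasiCompact_of_compactSpace W.ι
  let E := (DCoh.Rpush W.ι).obj F
  let K := repK E
  have hK : DCoh.IsKFlat K := isKFlat_repK E
  let eK : DerivedCategory.Q.obj K ≅ E := repKIso E
  refine GB.of_iso eK ((gb_iff hK).2 ?_)
  let C := (tensorModCx M).obj K
  haveI := isIso_ltensorModComparison M hK
  haveI := isIso_kLiftε (kRespects_tensorPull g' M) hK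
  obtain ⟨r⟩ := nonempty_lpull_rho W.ι
  obtain ⟨r⟩ : Nonempty (DerivedCategory.Q.obj ((rCx W.ι).obj K) ≅ F) := by
    obtain ⟨b⟩ := nonempty_lpull_rpush_adj W.ι
    haveI := isIso_counit_of_open W.ι (Iso.refl (DCoh.Lpull W.ι)) b
    exact ⟨((rhoQ W.ι).app K).symm ≪≫ (rho W.ι).mapIso eK ≪≫ (r.app E).symm ≪≫ asIso (b.counit.app F)⟩
  refine gbc_of_open W C ?_ ?_ ?_
  · exact GBc.of_iso (rCxTensorIso W.ι M K).symm
      ((gb_iff (isKFlat_restrict W.ι hK)).1 (GB.of_iso r.symm h))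
  · obtain ⟨F', ⟨e⟩⟩ := nonempty_tensor_rpush W.ι hM hF
    exact isIso_unit_of_iso W.ι
      ((asIso ((ltensorModComparison M).app K)).symm ≪≫ (DCoh.LTensorMod M).mapIso eK ≪≫ e)
  · haveI : QuasiCompact (g' ⁻¹ᵁ W).ι :=
      MorphismProperty.of_isPullback (isPullback_morphismRestrict g' W) inferInstance
    have Hj : IsPullback (g' ∣_ W) (g' ⁻¹ᵁ W).ι W.ι g' := isPullback_morphismRestrict g' W
    obtain ⟨eb⟩ := nonempty_bc_iso Hj.w (bc_of_flat_left Hj F hF)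
    obtain ⟨F', ⟨e⟩⟩ := nonempty_tensor_rpush (g' ⁻¹ᵁ W).ι (QCoh.isQCoh_pullback g' hM)
      (isQCohD_lpull (g' ∣_ W) hF)
    exact isIso_unit_of_iso _
      ((asIso ((kLiftε (kRespects_tensorPull g' M)).app K)).symm ≪≫
        (pullTensorD g' M).mapIso eK ≪≫ (nonempty_pullTensorD_iso g' M E).some ≪≫
        (DCoh.LTensorMod _).mapIso eb ≪≫ e)

/-- `GB` for all morphisms from `Z` to affine schemes. -/
def QG (Z : Scheme.{u}) : Prop :=
  ∀ (S S' : Scheme.{u}), IsAffine S → IsAffine S' → ∀ (X' : Scheme.{u}) (f : Z ⟶ S) (g : S' ⟶ S)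
    (f' : X' ⟶ S') (g' : X' ⟶ Z), IsPullback g' f' f g → ∀ M : Z.Modules, Coh.IsQCoh M →
      FlatMod.IsFlatOver f M → ∀ E : DCoh.D Z, DCoh.IsQCohD E → GB f g f' g' M E

lemma qg_step (X : Scheme.{u}) [CompactSpace X] [QuasiSeparatedSpace X] (U V : X.Opens) (hUV : U ⊔ V = ⊤)
    (hQ : ∀ W : X.Opens, W = U ∨ W = V ∨ W = U ⊓ V → IsCompact (W : Set X) ∧ QG W) : QG X := by
  intro S S' hS hS' X' f g f' g' H M hM hfl E hE
  obtain ⟨a, b, c, hT⟩ := exists_mvRpush_triangle U V hUV E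
  have key : ∀ W : X.Opens, W = U ∨ W = V ∨ W = U ⊓ V →
      GBs f g f' g' M ((DCoh.Rpush W.ι).obj ((DCoh.restrictD W.ι).obj E)) := by
    intro W hW n
    obtain ⟨hWc, hWQ⟩ := hQ W hW
    have hq : DCoh.IsQCohD (((DCoh.restrictD W.ι).obj E)⟦n⟧) := isQCohD_shift (isQCohD_restrictD W.ι hE) n
    letI := (DQGen.adj W.ι).rightAdjointCommShift ℤ
    refine GB.of_iso (((DCoh.Rpush W.ι).commShiftIso n).app _) ?_
    exact gb_rpush W hWc H hM hq (hWQ S S' hS hS' _ _ g _ _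
      ((isPullback_morphismRestrict g' W).paste_vert H) _ (QCoh.isQCoh_restrict W.ι hM)
      (isFlatOver_restrict_comp W.ι hfl) _ hq)
  exact (GBs.obj₁ _ hT (GBs.biprod (key U (Or.inl rfl)) (key V (Or.inr (Or.inl rfl))))
    (key (U ⊓ V) (Or.inr (Or.inr rfl)))).gb

theorem qg_all (X : Scheme.{u}) [CompactSpace X] [QuasiSeparatedSpace X] : QG X := by
  refine qcqs_induction (fun Z hZ S S' hS hS' X' f g f' g' H M hM hfl E hE => ?_)
    (fun Z _ _ U V hUV hUc hV hQU hQV hQUV => qg_step Z U V hUV ?_) X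
  · haveI := hZ
    haveI := hS
    haveI := hS'
    exact gb_affine H hM hfl E hE
  · rintro W (rfl | rfl | rfl)
    · exact ⟨hUc, hQU⟩
    · exact ⟨hV.isCompact, hQV⟩
    · exact ⟨QuasiSeparatedSpace.inter_isCompact _ _ U.2 hUc V.2 hV.isCompact, hQUV⟩

/-- `Lg^*Rf_*(E ⊗ G) ⟶ Rf'_*(Lg'^*E ⊗ g'^*G)` is invertible for `G` flat over the base. -/
theorem gb_main [QuasiCompact f] [QuasiSeparated f] (H : IsPullback g' f' f g) (hM : Coh.IsQCoh M)
    (hfl : FlatMod.IsFlatOver f M) (E : DCoh.D X) (hE : DCoh.IsQCohD E) : GB f g f' g' M E := by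
  let K := repK E
  have hK : DCoh.IsKFlat K := isKFlat_repK E
  refine GB.of_iso (repKIso E) ((gb_iff hK).2 (gbc_of_local H.w _ fun s => ?_))
  obtain ⟨_, ⟨(U : S.Opens), hU, rfl⟩, hsU, -⟩ :=
    S.isBasis_affineOpens.exists_subset_of_mem_open (Set.mem_univ (g.base s)) isOpen_univ
  obtain ⟨_, ⟨(W : S'.Opens), hW, rfl⟩, hsW, hle⟩ :=
    S'.isBasis_affineOpens.exists_subset_of_mem_open (show s ∈ ((g ⁻¹ᵁ U : S'.Opens) : Set S') from hsU)
      (g ⁻¹ᵁ U).isOpen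
  refine ⟨U, W, hle, hsW, ?_⟩
  haveI : IsAffine (U : Scheme.{u}) := hU
  haveI : IsAffine (W : Scheme.{u}) := hW
  haveI : CompactSpace (f ⁻¹ᵁ U : Scheme.{u}) :=
    isCompact_iff_compactSpace.1 (f.isCompact_preimage hU.isCompact)
  haveI : QuasiSeparatedSpace (f ⁻¹ᵁ U : Scheme.{u}) :=
    quasiSeparatedSpace_of_quasiSeparated (f ∣_ U)
  refine GBc.of_iso (rCxTensorIso _ M K).symm ((gb_iff (isKFlat_restrict _ hK)).1 ?_)
  refine qg_all _ _ _ inferInstance inferInstance _ _ _ _ _ (RBC.isPullback_restrict H hle) _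
    (QCoh.isQCoh_restrict _ hM) (PushAmp.isFlatOver_morphismRestrict f U hfl) _ ?_
  exact isQCohD_of_iso ((rhoQ (f ⁻¹ᵁ U).ι).app K)
    (isQCohD_restrictD _ (isQCohD_of_iso (repKIso E).symm hE))

/-- `Lg^*Rf_*(E ⊗ G) ≅ Rf'_*(Lg'^*E ⊗ g'^*G)`. -/
theorem nonempty_gb_iso [QuasiCompact f] [QuasiSeparated f] (H : IsPullback g' f' f g) (hM : Coh.IsQCoh M)
    (hfl : FlatMod.IsFlatOver f M) (E : DCoh.D X) (hE : DCoh.IsQCohD E) :
    Nonempty ((DCoh.Lpull g).obj ((DCoh.Rpush f).obj ((DCoh.LTensorMod M).obj E)) ≅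
      (DCoh.Rpush f').obj ((DCoh.LTensorMod ((Scheme.Modules.pullback g').obj M)).obj
        ((DCoh.Lpull g').obj E))) := by
  obtain ⟨a⟩ := nonempty_lpull_rpush_adj f
  obtain ⟨a'⟩ := nonempty_lpull_rpush_adj f'
  obtain ⟨α⟩ := nonempty_sq_iso f g f' g' H.w
  obtain ⟨p⟩ := nonempty_pullTensorD_iso g' M E
  haveI := gb_main H hM hfl E hE _ _ _ _ _ (Iso.refl _) (Iso.refl _) (Iso.refl _) a a' α
  exact ⟨asIso ((bcM a a' α.hom).app _ ≫ (DCoh.Rpush f').map ((mu g' M).app E)) ≪≫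
    (DCoh.Rpush f').mapIso p⟩

end Groth.Agent.GBC
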