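import Groth.Agent.GBC.Perfect
import Groth.Agent.GBC.Affine
import Groth.Agent.KFlatLib.Perfect.Amplitude
import Groth.Agent.KFlatLib.Perfect.Top
import Groth.Agent.KFlatLib.Perfect.Tensor
import Groth.Agent.KFlatLib.Scheme.RpushQCoh
import Groth.Agent.ExtShX.Basic
import Groth.Agent.QCoh.RpushGod

/-!
# Direct images without higher cohomology of flat modules with proper support
-/

set_option autoImplicit false
set_option linter.style.haveILetI false
set_option backward.isDefEq.respectTransparency false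
set_option backward.isDefEq.respectTransparency.types false
set_option maxHeartbeats 800000
set_option synthInstance.maxHeartbeats 400000

universe u

open CategoryTheory CategoryTheory.Limits AlgebraicGeometry Pretriangulated TopologicalSpace

attribute [local instance] HasDerivedCategory.standard

noncomputable section

namespace Groth.Agent.GBC

open Groth.Agent.KFlatLib Groth.Agent.DQGen Groth.Agent.RBC

attribute [local instance] hasLpull hasRpush_scheme hasLTensorMod hasLTensorCx

variable {X S : Scheme.{u}}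

/-- `O ⊗^L G ≅ G`. -/
lemma nonempty_ltensorMod_oD (G : X.Modules) :
    Nonempty ((DCoh.LTensorMod G).obj (oD X 0) ≅ DCoh.inD X G) := by
  let K := (HomologicalComplex.single X.Modules (ComplexShape.up ℤ) 0).obj (Coh.structureModule X)
  have hK : DCoh.IsKFlat K := isKFlat_of_isStrictlyLE _ 0 (isFlat_single 0 isFlat_structureModule)
  haveI := isIso_ltensorModComparison G hK
  let e : (tensorModCx G).obj K ≅ (HomologicalComplex.single X.Modules (ComplexShape.up ℤ) 0).obj G :=
    (HomologicalComplex.singleMapHomologicalComplex (DCoh.tensorRightMod G) (ComplexShape.up ℤ) 0).app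
        (Coh.structureModule X) ≪≫
      (HomologicalComplex.single X.Modules (ComplexShape.up ℤ) 0).mapIso
        ((Exactness.flipTensorIso G).app _).symm ≪≫
      (HomologicalComplex.single X.Modules (ComplexShape.up ℤ) 0).mapIso
        (((tensorBiFlipIso X).app G).app (Coh.structureModule X) ≪≫ tensorUnitIso G)
  exact ⟨(DCoh.LTensorMod G).mapIso ((DerivedCategory.singleFunctorIsoCompQ X.Modules 0).app _) ≪≫
    asIso ((ltensorModComparison G).app K) ≪≫ DerivedCategory.Q.mapIso e ≪≫
    ((DerivedCategory.singleFunctorIsoCompQ X.Modules 0).app G).symm⟩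

/-- A module placed in one degree has relative tor amplitude in that degree. -/
lemma hasTorAmplitude_single (f : X ⟶ S) {M : X.Modules} (hfl : FlatMod.IsFlatOver f M) (k : ℤ) :
    DerSch.HasTorAmplitude f k k ((HomologicalComplex.single X.Modules (ComplexShape.up ℤ) k).obj M) :=
  PushAmp.hasTorAmplitude_of_flatOver _
    (fun m hm => HomologicalComplex.isZero_single_obj_X (ComplexShape.up ℤ) k _ m (by omega))
    fun m x => by
      rcases eq_or_ne m k with rfl | hm
      · haveI : Module.Flat _ ((DerSch.stalkOver f x).obj M) := hfl x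
        change Module.Flat _ ((DerSch.stalkOver f x).obj _ : Type u)
        exact Module.Flat.of_linearEquiv
          ((DerSch.stalkOver f x).mapIso
            (HomologicalComplex.singleObjXSelf (ComplexShape.up ℤ) m M)).toLinearEquiv
      · haveI : Subsingleton ((DerSch.stalkOver f x).obj
            (((HomologicalComplex.single X.Modules (ComplexShape.up ℤ) k).obj M).X m)) :=
          ModuleCat.subsingleton_of_isZero
            ((DerSch.stalkOver f x).map_isZero
              (HomologicalComplex.isZero_single_obj_X (ComplexShape.up ℤ) k _ m hm))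
        change Module.Flat _ ((DerSch.stalkOver f x).obj _ : Type u)
        infer_instance

/-- `H^0` of a perfect complex of tor amplitude in `[0, b]` without higher cohomology. -/
theorem isFinLocFree_hd_zero {E : DCoh.D X} (hE : DCoh.IsPerfect E) {b : ℤ} (hb : 0 ≤ b)
    (hamp : DCoh.HasFlatAmplitudeIn 0 b E) (hvan : ∀ i : ℤ, 0 < i → IsZero (DCoh.HD E i)) :
    FlatMod.IsFinLocFree (DCoh.HD E 0) := by
  have hpc : LocPC (0 - 1) E := LocSP.locPC ((isPerfect_iff _).1 hE) _
  refine isFinLocFree_of_restrict fun x => ?_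
  obtain ⟨U, j, _, hx, P, hv, hf, ⟨e⟩⟩ := (perfectAmplitude_iff E 0 b hb).2 ⟨hpc, hamp⟩ x
  let V := j.opensRange
  let w : (V : Scheme.{u}) ⟶ U := j.isoOpensRange.inv
  have hw : w ≫ j = V.ι := j.isoOpensRange_inv_comp
  let P₁ := (rCx w).obj P
  let e₁ : DerivedCategory.Q.obj P₁ ≅ (rho V.ι).obj E :=
    ((rhoQ w).app P).symm ≪≫ (rho w).mapIso e ≪≫ rhoComp w j V.ι hw E
  let hH : ∀ i, DCoh.HD ((rho V.ι).obj E) i ≅ (DCoh.HD E i).restrict V.ι := fun i =>
    (mapDCHomologyIso (Scheme.Modules.restrictFunctor V.ι) i).app E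
  have hh : ∀ i, 0 < i → IsZero (P₁.homology i) := fun i hi =>
    ((Scheme.Modules.restrictFunctor V.ι).map_isZero (hvan i hi)).of_iso
      (((DerivedCategory.homologyFunctorFactors _ i).app P₁).symm ≪≫
        (DerivedCategory.homologyFunctor _ i).mapIso e₁ ≪≫ hH i)
  have hv₁ : DCoh.VanishesOutside P₁ 0 b := fun i hi =>
    (Scheme.Modules.restrictFunctor w).map_isZero (hv i hi)
  have hsp : DCoh.IsStrictlyPerfect P₁ :=
    ⟨⟨0, b, hv₁⟩, fun i => H23.PullPush.isFinLocFree_of_iso
      ((Scheme.Modules.restrictFunctorIsoPullback w).app _).symm (KFlatLib.isFinLocFree_pullback w (hf i))⟩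
  obtain ⟨P₂, hP₂, hhi, hlo, ⟨e₂⟩⟩ := exists_cutoff 0 b.toNat P₁ hsp
    (fun i hi => hv₁ i (Or.inr (by omega))) hh
  have hlow : ∀ i, i < 0 → IsZero (P₂.X i) := hlo 0 le_rfl fun i hi => hv₁ i (Or.inl hi)
  refine ⟨V, hx, ?_⟩
  let c : P₂.X 0 ≅ (DCoh.HD E 0).restrict V.ι :=
    (P₂.iCyclesIso 0 1 (by simp) ((hhi 1 (by omega)).eq_of_tgt _ _)).symm ≪≫
      P₂.isoHomologyπ (-1) 0 (by simp) ((hlow (-1) (by omega)).eq_of_src _ _) ≪≫
      ((DerivedCategory.homologyFunctorFactors _ 0).app P₂).symm ≪≫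
      (DerivedCategory.homologyFunctor _ 0).mapIso (e₂ ≪≫ e₁) ≪≫ hH 0
  exact H23.PullPush.isFinLocFree_of_iso c (hP₂.2 0)

/-- `f_*F` is finite locally free when the higher direct images vanish. -/
theorem isFinLocFree_push (f : X ⟶ S) [LocallyOfFinitePresentation f] [QuasiCompact f] [QuasiSeparated f]
    [HasInjectiveResolutions X.Modules] (F : X.Modules) (hF : CohB1.IsFP F)
    (hflat : FlatMod.IsFlatOver f F) (hsupp : ClSub.IsProperOver f (CohB1.support F))
    (hvan : ∀ i : ℕ, 0 < i → IsZero ((Coh.Rpush f i).obj F)) :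
    FlatMod.IsFinLocFree ((Coh.push f).obj F) := by
  haveI := QCoh.preservesFiniteLimits_push f
  haveI := SpObjSS.enoughInjectives_of_hasInjectiveResolutions (C := X.Modules)
  obtain ⟨c⟩ := nonempty_ltensorMod_oD F
  let K := (DCoh.Rpush f).obj (DCoh.inD X F)
  have hK : DCoh.IsPerfect K :=
    isPerfect_of_iso ((DCoh.Rpush f).mapIso c) (isPerfect_rpush_tensor f F hF hflat hsupp (isPerfect_oD X 0))
  obtain ⟨e₀⟩ := nonempty_hd_rpush_single f F 0
  refine H23.PullPush.isFinLocFree_of_iso
    (e₀ ≪≫ (Scheme.Modules.pushforward f).rightDerivedZeroIsoSelf.app F) ?_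
  refine isFinLocFree_of_restrict fun s => ?_
  obtain ⟨_, ⟨(U : S.Opens), hU, rfl⟩, hsU, -⟩ :=
    S.isBasis_affineOpens.exists_subset_of_mem_open (Set.mem_univ s) isOpen_univ
  refine ⟨U, hsU, ?_⟩
  haveI : IsAffine (U : Scheme.{u}) := hU
  let j := (f ⁻¹ᵁ U).ι
  let C := (HomologicalComplex.single X.Modules (ComplexShape.up ℤ) 0).obj F
  let C' := (HomologicalComplex.single (f ⁻¹ᵁ U : Scheme.{u}).Modules (ComplexShape.up ℤ) 0).obj
    ((Scheme.Modules.restrictFunctor j).obj F)
  obtain ⟨er⟩ := nonempty_rpush_restrictD_iso f U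
  have hq : DCoh.IsQCohD (DCoh.toD _ C') :=
    isQCohD_of_iso ((DerivedCategory.singleFunctorIsoCompQ _ 0).app _)
      (isQCohD_sD (QCoh.isQCoh_restrict j (QCoh.isQCoh_of_isFP hF)) 0)
  obtain ⟨b', hb'⟩ := PushAmp.exists_flatAmplitude_rpush (f ∣_ U) C' hq 0 0
    (hasTorAmplitude_single _ (PushAmp.isFlatOver_morphismRestrict f U hflat) 0)
  let eK : (DCoh.Rpush (f ∣_ U)).obj (DCoh.toD _ C') ≅ (rho U.ι).obj K :=
    (DCoh.Rpush (f ∣_ U)).mapIso (DerivedCategory.Q.mapIso
      ((HomologicalComplex.singleMapHomologicalComplex (Scheme.Modules.restrictFunctor j)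
        (ComplexShape.up ℤ) 0).app F).symm ≪≫ ((rhoQ j).app C).symm ≪≫
      (rho j).mapIso ((DerivedCategory.singleFunctorIsoCompQ X.Modules 0).app F).symm) ≪≫ (er.app _).symm
  obtain ⟨P, hv, hP, ⟨eP⟩⟩ := hb'
  let hH : ∀ i, DCoh.HD ((rho U.ι).obj K) i ≅ (DCoh.HD K i).restrict U.ι := fun i =>
    (mapDCHomologyIso (Scheme.Modules.restrictFunctor U.ι) i).app K
  refine H23.PullPush.isFinLocFree_of_iso (hH 0) (isFinLocFree_hd_zero (isPerfect_rho U.ι hK)
    (b := max b' 0) (le_max_right _ _) ⟨P, fun i hi => hv i (by omega), hP, ⟨eP ≪≫ eK⟩⟩ fun i hi => ?_)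
  obtain ⟨n, rfl⟩ := Int.eq_ofNat_of_zero_le hi.le
  obtain ⟨eₙ⟩ := nonempty_hd_rpush_single f F n
  exact ((Scheme.Modules.restrictFunctor U.ι).map_isZero ((hvan n (by omega)).of_iso eₙ)).of_iso (hH _)

end Groth.Agent.GBC
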