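import Groth.Agent.GBC.Perfect
import Groth.Agent.PushAmp.TensorPerfect
import Groth.Agent.PushAmp.Dual
import Groth.Agent.KFlatLib.BrutalTrunc
import Groth.Agent.KFlatLib.Scheme.RpushBound
import Groth.Agent.S1103

/-!
# Pseudo-coherence of derived direct images of `E ⊗^L G` for complexes `G` of flat modules with proper support
-/

set_option autoImplicit false
set_option linter.style.haveILetI false
set_option backward.isDefEq.respectTransparency false
set_option backward.isDefEq.respectTransparency.types false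
set_option maxHeartbeats 800000

universe u

open CategoryTheory CategoryTheory.Limits AlgebraicGeometry Pretriangulated TopologicalSpace ZeroObject

attribute [local instance] HasDerivedCategory.standard

noncomputable section

namespace Groth.Agent.GBC

open Groth.Agent.KFlatLib Groth.Agent.DQGen Groth.Agent.RBC

attribute [local instance] hasLpull hasRpush_scheme hasLTensorMod hasLTensorCx

variable {X S : Scheme.{u}}

/-- `M ⊗^L P`, in the two orders. -/
lemma nonempty_ltensor_single {P : CochainComplex X.Modules ℤ} (hP : DCoh.IsKFlat P) (M : X.Modules) :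
    Nonempty ((DCoh.LTensorCx P).obj (DCoh.inD X M) ≅ (DCoh.LTensorMod M).obj (DCoh.toD X P)) := by
  let S := (HomologicalComplex.single X.Modules (ComplexShape.up ℤ) 0).obj M
  haveI := isIso_LTensorCx_counit_of_isKFlat_right P hP S
  haveI := isIso_ltensorModComparison M hP
  exact ⟨((asIso ((ltensorModComparison M).app P)) ≪≫
    DerivedCategory.Q.mapIso (((singleIso DCoh.tensorBi M).app P).symm ≪≫
      (symmIso (tensorBiFlipIso X) S).app P) ≪≫
    (asIso (((DCoh.tensorCxQ P).totalLeftDerivedCounit DerivedCategory.Q (qisX X)).app S)).symm ≪≫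
    (DCoh.LTensorCx P).mapIso ((DerivedCategory.singleFunctorIsoCompQ X.Modules 0).app M).symm).symm⟩

section

variable (f : X ⟶ S) (P : CochainComplex X.Modules ℤ)

/-- Objects `Z` with pseudo-coherent `Rf_*(Z ⊗^L P)`. -/
def PushPC : ObjectProperty (DCoh.D X) := fun Z =>
  ∀ m, LocPC m ((DCoh.Rpush f).obj ((DCoh.LTensorCx P).obj Z))

variable {f P}

lemma PushPC.of_iso {A B : DCoh.D X} (e : A ≅ B) (h : PushPC f P A) : PushPC f P B := fun m =>
  (h m).of_iso ((DCoh.Rpush f).mapIso ((DCoh.LTensorCx P).mapIso e))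

lemma pushPC_images (T : Triangle (DCoh.D X)) (hT : T ∈ distTriang (DCoh.D X)) :
    ∃ T' : Triangle (DCoh.D S), T' ∈ distTriang (DCoh.D S) ∧
      Nonempty (T'.obj₁ ≅ (DCoh.Rpush f).obj ((DCoh.LTensorCx P).obj T.obj₂)) ∧
      Nonempty (T'.obj₂ ≅ (DCoh.Rpush f).obj ((DCoh.LTensorCx P).obj T.obj₃)) ∧
      Nonempty (T'.obj₃ ≅ (DCoh.Rpush f).obj ((DCoh.LTensorCx P).obj (T.obj₁⟦(1 : ℤ)⟧))) := by
  obtain ⟨T', hT', ⟨e₁⟩, ⟨e₂⟩, ⟨e₃⟩⟩ := PushAmp.exists_ltensor_triangle P T hT
  obtain ⟨c, hc⟩ := exists_rpush_triangle f T' hT'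
  exact ⟨_, hc, ⟨(DCoh.Rpush f).mapIso e₁⟩, ⟨(DCoh.Rpush f).mapIso e₂⟩, ⟨(DCoh.Rpush f).mapIso e₃⟩⟩

lemma pushPC_of_isZero (b : ℤ) [(DCoh.toD X P).IsLE b] {Z : DCoh.D X} (h : IsZero Z) : PushPC f P Z := fun m => by
  refine LocSP.locPC ((isPerfect_iff _).1 (isPerfect_of_isZero (pp_of_isZero f ?_))) m
  let K := (DCoh.LTensorCx P).obj Z
  have hz : ∀ i, IsZero (DCoh.HD K i) := fun i => by
    haveI : Z.IsLE (i - b - 1) := (DerivedCategory.isLE_iff _ _).2 fun j _ =>
      (DerivedCategory.homologyFunctor X.Modules j).map_isZero h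
    exact PushAmp.isZero_hd_ltensor P b Z (i - b - 1) i (by omega)
  haveI : K.IsLE (-1) := (DerivedCategory.isLE_iff _ _).2 fun i _ => hz i
  haveI : K.IsGE 0 := (DerivedCategory.isGE_iff _ _).2 fun i _ => hz i
  exact DerivedCategory.TStructure.t.isZero K (-1) 0 (by omega)

lemma PushPC.shift_one (b : ℤ) [(DCoh.toD X P).IsLE b] (K : DCoh.D X) :
    PushPC f P (K⟦(1 : ℤ)⟧) ↔ PushPC f P K := by
  obtain ⟨T', hT', ⟨e₁⟩, ⟨e₂⟩, ⟨e₃⟩⟩ := pushPC_images (f := f) (P := P) _ (contractible_distinguished K)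
  have h0 : ∀ m, LocPC m T'.obj₂ := fun m =>
    (pushPC_of_isZero (f := f) (P := P) b (isZero_zero _) m).of_iso e₂.symm
  refine ⟨fun h m => ?_, fun h m => ?_⟩
  · have h1 := (locPC_two_of_three (m - 1) T' hT').2.2 (h0 _) ((h _).of_iso e₃.symm)
    rw [show m - 1 + 1 = m by omega] at h1
    exact h1.of_iso e₁
  · exact ((locPC_two_of_three m T' hT').1 ((h _).of_iso e₁.symm) (h0 _)).of_iso e₃

lemma PushPC.shift (b : ℤ) [(DCoh.toD X P).IsLE b] (n : ℤ) : ∀ (K : DCoh.D X),
    PushPC f P (K⟦n⟧) ↔ PushPC f P K := by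
  have iso : ∀ {A B : DCoh.D X}, (A ≅ B) → (PushPC f P A ↔ PushPC f P B) := fun e =>
    ⟨PushPC.of_iso e, PushPC.of_iso e.symm⟩
  induction n using Int.induction_on with
  | zero => exact fun K => iso ((shiftFunctorZero _ ℤ).app K)
  | succ k ih =>
    intro K
    exact (iso ((shiftFunctorAdd _ (k : ℤ) 1).app K)).trans ((PushPC.shift_one b _).trans (ih K))
  | pred k ih =>
    intro K
    exact (PushPC.shift_one b _).symm.trans
      ((iso ((shiftFunctorAdd' _ (-(k : ℤ) - 1) 1 (-(k : ℤ)) (by omega)).app K).symm).trans (ih K))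

/-- The middle term of a triangle. -/
lemma PushPC.obj₂ (b : ℤ) [(DCoh.toD X P).IsLE b] (T : Triangle (DCoh.D X)) (hT : T ∈ distTriang (DCoh.D X))
    (h₁ : PushPC f P T.obj₁) (h₃ : PushPC f P T.obj₃) : PushPC f P T.obj₂ := fun m => by
  obtain ⟨T', hT', ⟨e₁⟩, ⟨e₂⟩, ⟨e₃⟩⟩ := pushPC_images (f := f) (P := P) T hT
  have h := (locPC_two_of_three (m - 1) T' hT').2.2 ((h₃ _).of_iso e₂.symm)
    (((PushPC.shift_one b _).2 h₁ _).of_iso e₃.symm)
  rw [show m - 1 + 1 = m by omega] at h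
  exact h.of_iso e₁

end

/-- Bounded complexes of flat modules with proper support. -/
theorem pushPC_bounded (f : X ⟶ S) [LocallyOfFinitePresentation f] [QuasiCompact f] [QuasiSeparated f]
    {P : CochainComplex X.Modules ℤ} (hP : DCoh.IsKFlat P) (hperf : DCoh.IsPerfect (DCoh.toD X P))
    (b : ℤ) [(DCoh.toD X P).IsLE b] : ∀ (n : ℕ) (a : ℤ) (C : CochainComplex X.Modules ℤ),
    (∀ i, i < a ∨ a + n ≤ i → IsZero (C.X i)) →
    (∀ i, a ≤ i → i < a + n → CohB1.IsFP (C.X i) ∧ FlatMod.IsFlatOver f (C.X i) ∧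
      ClSub.IsProperOver f (CohB1.support (C.X i))) →
    PushPC f P (DCoh.toD X C) := by
  intro n
  induction n with
  | zero =>
    intro a C hz _
    have hC : IsZero C := (IsZero.iff_id_eq_zero _).2 (HomologicalComplex.hom_ext _ _ fun i =>
      (hz i (by omega)).eq_of_src _ _)
    exact pushPC_of_isZero b (DerivedCategory.Q.map_isZero hC)
  | succ n ih =>
    intro a C hz hC
    let σ := sigmaSES C (a + 1)
    have hσ := sigmaSES_shortExact C (a + 1)
    refine PushPC.obj₂ b _ (DerivedCategory.triangleOfSES_distinguished hσ) ?_ ?_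
    · have hXi : ∀ i, a + 1 ≤ i → Nonempty (σ.X₁.X i ≅ C.X i) := fun i hi =>
        ⟨@asIso _ _ _ _ ((sigmaGEι C (a + 1)).f i) (isIso_sigmaGEι_f C (a + 1) i hi)⟩
      refine ih (a + 1) σ.X₁ (fun i hi => ?_) fun i h₁ h₂ => ?_
      · rcases lt_or_ge i (a + 1) with h | h
        · exact isZero_stupidTrunc_of_lt C (a + 1) i h
        · exact (hz i (Or.inr (by push_cast; omega))).of_iso (hXi i h).some
      · obtain ⟨hfp, hfl, hsu⟩ := hC i (by omega) (by push_cast; omega)
        obtain ⟨e⟩ := hXi i h₁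
        refine ⟨(SheafOfModules.isFinitePresentation (R := X.ringCatSheaf)).prop_of_iso e.symm hfp,
          fun x => GrFlat5.isFlatOverAt_of_iso f e.symm x (hfl x), ?_⟩
        rw [QCoh.support_iso e (QCoh.isQCoh_of_isFP
          ((SheafOfModules.isFinitePresentation (R := X.ringCatSheaf)).prop_of_iso e.symm hfp))]
        exact hsu
    · haveI : σ.X₃.IsStrictlyLE a := by
        have := isStrictlyLE_sigmaSES_X₃ C (a + 1)
        rwa [show a + 1 - 1 = a by omega] at this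
      haveI : σ.X₃.IsStrictlyGE a := (CochainComplex.isStrictlyGE_iff _ _).2 fun i hi =>
        (hz i (Or.inl hi)).of_iso (nonempty_sigmaSES_X₃_iso C (a + 1) i (by omega)).some.symm
      obtain ⟨M, ⟨e⟩⟩ := CochainComplex.exists_iso_single σ.X₃ a
      obtain ⟨c⟩ := nonempty_sigmaSES_X₃_iso C (a + 1) a (by omega)
      let eM : C.X a ≅ M := c ≪≫ (HomologicalComplex.eval _ _ a).mapIso e ≪≫
        HomologicalComplex.singleObjXSelf (ComplexShape.up ℤ) a M
      obtain ⟨hfp, hfl, hsu⟩ := hC a le_rfl (by push_cast; omega)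
      refine PushPC.of_iso (((shiftFunctor (DCoh.D X) (-a)).mapIso
        ((DerivedCategory.singleFunctor X.Modules 0).mapIso eM)) ≪≫
          ((DerivedCategory.singleFunctors X.Modules).shiftIso (-a) a 0 (by omega)).app M ≪≫
          (DerivedCategory.singleFunctorIsoCompQ X.Modules a).app M ≪≫ DerivedCategory.Q.mapIso e.symm)
        ((PushPC.shift b (-a) _).2 fun m => ?_)
      obtain ⟨eT⟩ := nonempty_ltensor_single hP (C.X a)
      exact LocSP.locPC ((isPerfect_iff _).1 (isPerfect_of_iso ((DCoh.Rpush f).mapIso eT.symm)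
        (isPerfect_rpush_tensor f (C.X a) hfp hfl hsu hperf))) m

/-- Perfect `E`. -/
theorem locPC_rpush_ltensor_perfect [CompactSpace S] [QuasiSeparatedSpace S] (f : X ⟶ S)
    [LocallyOfFinitePresentation f] [QuasiCompact f] [QuasiSeparated f]
    (G : CochainComplex X.Modules ℤ) (g : ℤ) (hGb : ∀ i, g < i → IsZero (G.X i))
    (hGfp : ∀ i, CohB1.IsFP (G.X i)) (hGflat : ∀ i, FlatMod.IsFlatOver f (G.X i))
    (hGsupp : ∀ i, ClSub.IsProperOver f (CohB1.support (G.X i)))
    {E : DCoh.D X} (hE : DCoh.IsPerfect E) (m : ℤ) :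
    LocPC m ((DCoh.Rpush f).obj ((DCoh.LTensorCx G).obj E)) := by
  haveI : CompactSpace X := QuasiCompact.compactSpace_of_compactSpace f
  obtain ⟨_, b, -, hb⟩ := exists_bounds_of_isPerfect hE
  haveI := hb
  let P := repK E
  have hP : DCoh.IsKFlat P := isKFlat_repK E
  have hPp : DCoh.IsPerfect (DCoh.toD X P) := isPerfect_of_iso (repKIso E).symm hE
  haveI : (DCoh.toD X P).IsLE b := DerivedCategory.TStructure.t.isLE_of_iso (repKIso E).symm b
  obtain ⟨c⟩ := PushAmp.nonempty_ltensor_comm G P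
  refine LocPC.of_iso ((DCoh.Rpush f).mapIso (c.symm ≪≫ (DCoh.LTensorCx G).mapIso (repKIso E))) ?_
  obtain ⟨N, hN⟩ := PushAmp.exists_hd_bound f
  let k : ℤ := m - b - N - 1
  let σ := sigmaSES G k
  obtain ⟨T', hT', ⟨e₁⟩, ⟨e₂⟩, ⟨e₃⟩⟩ :=
    pushPC_images (f := f) (P := P) _ (DerivedCategory.triangleOfSES_distinguished (sigmaSES_shortExact G k))
  have h1 : PushPC f P (DCoh.toD X σ.X₁) := by
    have hXi : ∀ i, k ≤ i → Nonempty (σ.X₁.X i ≅ G.X i) := fun i hi =>
      ⟨@asIso _ _ _ _ ((sigmaGEι G k).f i) (isIso_sigmaGEι_f G k i hi)⟩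
    refine pushPC_bounded f hP hPp b (g + 1 - k).toNat k σ.X₁ (fun i hi => ?_) fun i h₁ _ => ?_
    · rcases lt_or_ge i k with h | h
      · exact isZero_stupidTrunc_of_lt G k i h
      · exact (hGb i (by omega)).of_iso (hXi i h).some
    · obtain ⟨e⟩ := hXi i h₁
      refine ⟨(SheafOfModules.isFinitePresentation (R := X.ringCatSheaf)).prop_of_iso e.symm (hGfp i),
        fun x => GrFlat5.isFlatOverAt_of_iso f e.symm x (hGflat i x), ?_⟩
      rw [QCoh.support_iso e (QCoh.isQCoh_of_isFP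
        ((SheafOfModules.isFinitePresentation (R := X.ringCatSheaf)).prop_of_iso e.symm (hGfp i)))]
      exact hGsupp i
  haveI := isStrictlyLE_sigmaSES_X₃ G k
  haveI : (DCoh.toD X σ.X₃).IsLE (k - 1) := inferInstanceAs ((DerivedCategory.Q.obj σ.X₃).IsLE (k - 1))
  have hq₃ : DCoh.IsQCohD (DCoh.toD X σ.X₃) := (isQCohD_Q_iff _).2 (isQCoh_homology_of_terms _ fun i => by
    rcases lt_or_ge i k with h | h
    · exact KFlatLib.isQCoh_of_iso (nonempty_sigmaSES_X₃_iso G k i h).some (QCoh.isQCoh_of_isFP (hGfp i))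
    · exact isQCoh_of_isZero (σ.X₃.isZero_of_isStrictlyLE (k - 1) i (by omega)))
  let W := (DCoh.LTensorCx P).obj (DCoh.toD X σ.X₃)
  have hW : DCoh.IsQCohD W := isQCohD_ltensor _ (isQCohD_of_isPerfect hPp) hq₃
  haveI : W.IsLE (k - 1 + b) := (DerivedCategory.isLE_iff _ _).2 fun i hi =>
    PushAmp.isZero_hd_ltensor P b _ (k - 1) i (by omega)
  have h2 : LocPC (m - 1) T'.obj₂ :=
    (PushAmp.locPC_of_isZero_above fun i hi => hN W hW (k - 1 + b) inferInstance i (by omega)).of_iso e₂.symm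
  have h := (locPC_two_of_three (m - 1) T' hT').2.2 (h2.mono (by omega))
    (((PushPC.shift_one b _).2 h1 _).of_iso e₃.symm)
  rw [show m - 1 + 1 = m by omega] at h
  exact h.of_iso e₁

/-- Pseudo-coherent `E`, over a quasi-compact quasi-separated base. -/
theorem locPC_rpush_ltensor [CompactSpace S] [QuasiSeparatedSpace S] (f : X ⟶ S)
    [LocallyOfFinitePresentation f] [QuasiCompact f] [QuasiSeparated f]
    (G : CochainComplex X.Modules ℤ) (g : ℤ) (hGb : ∀ i, g < i → IsZero (G.X i))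
    (hGfp : ∀ i, CohB1.IsFP (G.X i)) (hGflat : ∀ i, FlatMod.IsFlatOver f (G.X i))
    (hGsupp : ∀ i, ClSub.IsProperOver f (CohB1.support (G.X i)))
    {E : DCoh.D X} (hE : ∀ m, LocPC m E) (m : ℤ) :
    LocPC m ((DCoh.Rpush f).obj ((DCoh.LTensorCx G).obj E)) := by
  haveI : CompactSpace X := QuasiCompact.compactSpace_of_compactSpace f
  haveI : QuasiSeparatedSpace X := quasiSeparatedSpace_of_quasiSeparated f
  haveI : CochainComplex.IsStrictlyLE G g := (CochainComplex.isStrictlyLE_iff _ _).2 hGb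
  haveI : (DCoh.toD X G).IsLE g := inferInstanceAs ((DerivedCategory.Q.obj G).IsLE g)
  have hK : DCoh.IsQCohD (DCoh.toD X G) :=
    (isQCohD_Q_iff _).2 (isQCoh_homology_of_terms _ fun i => QCoh.isQCoh_of_isFP (hGfp i))
  obtain ⟨N, hN⟩ := PushAmp.exists_hd_bound f
  obtain ⟨r, hr⟩ := Groth.Agent.S1103.result X Set.univ isClosed_univ (by simp)
  have hEq : DCoh.IsQCohD E := ProjPush.isQCohD_of_locPC hE
  obtain ⟨P, α, hP, -, hα⟩ := hr (m - g - N - 1) E hEq ((isPseudoCoherentD_iff _ _).2 (hE _))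
    (fun i _ => Set.subset_univ _)
  obtain ⟨C, _, _, hT⟩ := CategoryTheory.Pretriangulated.distinguished_cocone_triangle α
  haveI : C.IsLE (m - g - N - 2) := (DerivedCategory.isLE_iff C _).2 fun i hi =>
    isZero_obj₃_of_isPcMap hT hα i (by omega)
  have hCq : DCoh.IsQCohD C := isQCohD_obj₃ hT (isQCohD_of_isPerfect hP) hEq
  obtain ⟨T', hT', ⟨e₁⟩, ⟨e₂⟩, ⟨e₃⟩⟩ := pushPC_images (f := f) (P := G) _ hT
  have hP1 : DCoh.IsPerfect (P⟦(1 : ℤ)⟧) := (isPerfect_iff _).2 (((isPerfect_iff _).1 hP).shift 1)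
  have h3 := (locPC_rpush_ltensor_perfect f G g hGb hGfp hGflat hGsupp hP1 (m - 1)).of_iso e₃.symm
  let W := (DCoh.LTensorCx G).obj C
  haveI : W.IsLE (m - N - 2) := (DerivedCategory.isLE_iff _ _).2 fun i hi =>
    PushAmp.isZero_hd_ltensor G g C (m - g - N - 2) i (by omega)
  have h2 : LocPC (m - 1) T'.obj₂ :=
    (PushAmp.locPC_of_isZero_above fun i hi =>
      hN W (isQCohD_ltensor G hK hCq) (m - N - 2) inferInstance i (by omega)).of_iso e₂.symm
  have h1 := (locPC_two_of_three (m - 1) T' hT').2.2 (h2.mono (by omega)) h3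
  rw [show m - 1 + 1 = m by omega] at h1
  exact h1.of_iso e₁

/-- Pseudo-coherent `E`, over any base. -/
theorem locPC_rpush_ltensor_global (f : X ⟶ S) [LocallyOfFinitePresentation f] [QuasiCompact f]
    [QuasiSeparated f] (G : CochainComplex X.Modules ℤ) (g : ℤ) (hGb : ∀ i, g < i → IsZero (G.X i))
    (hGfp : ∀ i, CohB1.IsFP (G.X i)) (hGflat : ∀ i, FlatMod.IsFlatOver f (G.X i))
    (hGsupp : ∀ i, ClSub.IsProperOver f (CohB1.support (G.X i)))
    {E : DCoh.D X} (hE : ∀ m, LocPC m E) (m : ℤ) :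
    LocPC m ((DCoh.Rpush f).obj ((DCoh.LTensorCx G).obj E)) := by
  refine LocPC.of_local fun s => ?_
  obtain ⟨_, ⟨(U : S.Opens), hU, rfl⟩, hsU, -⟩ :=
    S.isBasis_affineOpens.exists_subset_of_mem_open (Set.mem_univ s) isOpen_univ
  refine ⟨_, U.ι, inferInstance, ⟨⟨s, hsU⟩, rfl⟩, ?_⟩
  haveI : IsAffine (U : Scheme.{u}) := hU
  haveI : LocallyOfFinitePresentation (f ∣_ U) :=
    IsZariskiLocalAtTarget.restrict ‹LocallyOfFinitePresentation f› U
  let j := (f ⁻¹ᵁ U).ι
  obtain ⟨e⟩ := nonempty_rpush_restrictD_iso f U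
  obtain ⟨eT⟩ := PushAmp.nonempty_rho_ltensor j G E ((rCx j).obj G) ((rhoQ j).app G).symm
  refine LocPC.of_iso ((DCoh.Rpush (f ∣_ U)).mapIso eT.symm ≪≫ (e.app _).symm) ?_
  refine locPC_rpush_ltensor (f ∣_ U) ((rCx j).obj G) g
    (fun i hi => (Scheme.Modules.restrictFunctor j).map_isZero (hGb i hi))
    (fun i => isFP_restrictFunctor j (hGfp i)) (fun i => PushAmp.isFlatOver_morphismRestrict f U (hGflat i))
    (fun i => ?_) (fun n => (hE n).restrict j) m
  have hq := QCoh.isQCoh_of_isFP (hGfp i)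
  show ClSub.IsProperOver (f ∣_ U) (CohB1.support ((Scheme.Modules.restrictFunctor j).obj (G.X i)))
  rw [QCoh.support_iso ((Scheme.Modules.restrictFunctorIsoPullback j).app (G.X i)) (QCoh.isQCoh_restrict j hq),
    QCoh.support_pullback j hq (QCoh.isFT_of_isFP (hGfp i))]
  exact QCoh.IsProperOver.baseChange (isPullback_morphismRestrict f U).flip (hGsupp i)

end Groth.Agent.GBC
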