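import Groth.Agent.GBC.PushPC

/-!
# Perfectness of derived direct images of `E ⊗^L G` for bounded complexes `G` of flat modules with proper support
-/

set_option autoImplicit false
set_option linter.style.haveILetI false
set_option backward.isDefEq.respectTransparency false
set_option backward.isDefEq.respectTransparency.types false
set_option maxHeartbeats 800000

universe u

open CategoryTheory CategoryTheory.Limits AlgebraicGeometry Pretriangulated TopologicalSpace ZeroObject

attribute [local instance] HasDerivedCategory.standard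

noncomputable section

namespace Groth.Agent.GBC

open Groth.Agent.KFlatLib Groth.Agent.DQGen Groth.Agent.RBC

attribute [local instance] hasLpull hasRpush_scheme hasLTensorMod hasLTensorCx

variable {X S : Scheme.{u}}

section

variable (f : X ⟶ S) (P : CochainComplex X.Modules ℤ)

/-- Objects `Z` with perfect `Rf_*(Z ⊗^L P)`. -/
def PushSP : ObjectProperty (DCoh.D X) := fun Z =>
  DCoh.IsPerfect ((DCoh.Rpush f).obj ((DCoh.LTensorCx P).obj Z))

variable {f P}

lemma PushSP.of_iso {A B : DCoh.D X} (e : A ≅ B) (h : PushSP f P A) : PushSP f P B :=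
  isPerfect_of_iso ((DCoh.Rpush f).mapIso ((DCoh.LTensorCx P).mapIso e)) h

lemma pushSP_of_isZero (b : ℤ) [(DCoh.toD X P).IsLE b] {Z : DCoh.D X} (h : IsZero Z) : PushSP f P Z := by
  refine isPerfect_of_isZero (pp_of_isZero f ?_)
  let K := (DCoh.LTensorCx P).obj Z
  have hz : ∀ i, IsZero (DCoh.HD K i) := fun i => by
    haveI : Z.IsLE (i - b - 1) := (DerivedCategory.isLE_iff _ _).2 fun j _ =>
      (DerivedCategory.homologyFunctor X.Modules j).map_isZero h
    exact PushAmp.isZero_hd_ltensor P b Z (i - b - 1) i (by omega)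
  haveI : K.IsLE (-1) := (DerivedCategory.isLE_iff _ _).2 fun i _ => hz i
  haveI : K.IsGE 0 := (DerivedCategory.isGE_iff _ _).2 fun i _ => hz i
  exact DerivedCategory.TStructure.t.isZero K (-1) 0 (by omega)

lemma PushSP.shift_one (b : ℤ) [(DCoh.toD X P).IsLE b] (K : DCoh.D X) :
    PushSP f P (K⟦(1 : ℤ)⟧) ↔ PushSP f P K := by
  obtain ⟨T', hT', ⟨e₁⟩, ⟨e₂⟩, ⟨e₃⟩⟩ := pushPC_images (f := f) (P := P) _ (contractible_distinguished K)
  have h0 := (isPerfect_iff _).1 (isPerfect_of_iso e₂.symm (pushSP_of_isZero (f := f) (P := P) b (isZero_zero _)))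
  refine ⟨fun h => ?_, fun h => ?_⟩
  · exact isPerfect_of_iso e₁ ((isPerfect_iff _).2
      ((locSP_two_of_three T' hT').2.2 h0 ((isPerfect_iff _).1 (isPerfect_of_iso e₃.symm h))))
  · exact isPerfect_of_iso e₃ ((isPerfect_iff _).2
      ((locSP_two_of_three T' hT').1 ((isPerfect_iff _).1 (isPerfect_of_iso e₁.symm h)) h0))

lemma PushSP.shift (b : ℤ) [(DCoh.toD X P).IsLE b] (n : ℤ) : ∀ (K : DCoh.D X),
    PushSP f P (K⟦n⟧) ↔ PushSP f P K := by
  have iso : ∀ {A B : DCoh.D X}, (A ≅ B) → (PushSP f P A ↔ PushSP f P B) := fun e =>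
    ⟨PushSP.of_iso e, PushSP.of_iso e.symm⟩
  induction n using Int.induction_on with
  | zero => exact fun K => iso ((shiftFunctorZero _ ℤ).app K)
  | succ k ih =>
    intro K
    exact (iso ((shiftFunctorAdd _ (k : ℤ) 1).app K)).trans ((PushSP.shift_one b _).trans (ih K))
  | pred k ih =>
    intro K
    exact (PushSP.shift_one b _).symm.trans
      ((iso ((shiftFunctorAdd' _ (-(k : ℤ) - 1) 1 (-(k : ℤ)) (by omega)).app K).symm).trans (ih K))

/-- The middle term of a triangle. -/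
lemma PushSP.obj₂ (b : ℤ) [(DCoh.toD X P).IsLE b] (T : Triangle (DCoh.D X)) (hT : T ∈ distTriang (DCoh.D X))
    (h₁ : PushSP f P T.obj₁) (h₃ : PushSP f P T.obj₃) : PushSP f P T.obj₂ := by
  obtain ⟨T', hT', ⟨e₁⟩, ⟨e₂⟩, ⟨e₃⟩⟩ := pushPC_images (f := f) (P := P) T hT
  exact isPerfect_of_iso e₁ ((isPerfect_iff _).2 ((locSP_two_of_three T' hT').2.2
    ((isPerfect_iff _).1 (isPerfect_of_iso e₂.symm h₃))
    ((isPerfect_iff _).1 (isPerfect_of_iso e₃.symm ((PushSP.shift_one b _).2 h₁)))))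

end

/-- Bounded complexes of flat modules with proper support. -/
theorem pushSP_bounded (f : X ⟶ S) [LocallyOfFinitePresentation f] [QuasiCompact f] [QuasiSeparated f]
    {P : CochainComplex X.Modules ℤ} (hP : DCoh.IsKFlat P) (hperf : DCoh.IsPerfect (DCoh.toD X P))
    (b : ℤ) [(DCoh.toD X P).IsLE b] : ∀ (n : ℕ) (a : ℤ) (C : CochainComplex X.Modules ℤ),
    (∀ i, i < a ∨ a + n ≤ i → IsZero (C.X i)) →
    (∀ i, a ≤ i → i < a + n → CohB1.IsFP (C.X i) ∧ FlatMod.IsFlatOver f (C.X i) ∧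
      ClSub.IsProperOver f (CohB1.support (C.X i))) →
    PushSP f P (DCoh.toD X C) := by
  intro n
  induction n with
  | zero =>
    intro a C hz _
    have hC : IsZero C := (IsZero.iff_id_eq_zero _).2 (HomologicalComplex.hom_ext _ _ fun i =>
      (hz i (by omega)).eq_of_src _ _)
    exact pushSP_of_isZero b (DerivedCategory.Q.map_isZero hC)
  | succ n ih =>
    intro a C hz hC
    let σ := sigmaSES C (a + 1)
    have hσ := sigmaSES_shortExact C (a + 1)
    refine PushSP.obj₂ b _ (DerivedCategory.triangleOfSES_distinguished hσ) ?_ ?_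
    · have hXi : ∀ i, a + 1 ≤ i → Nonempty (σ.X₁.X i ≅ C.X i) := fun i hi =>
        ⟨@asIso _ _ _ _ ((sigmaGEι C (a + 1)).f i) (isIso_sigmaGEι_f C (a + 1) i hi)⟩
      refine ih (a + 1) σ.X₁ (fun i hi => ?_) fun i h₁ h₂ => ?_
      · rcases lt_or_ge i (a + 1) with h | h
        · exact isZero_stupidTrunc_of_lt C (a + 1) i h
        · exact (hz i (Or.inr (by push_cast; omega))).of_iso (hXi i h).some
      · obtain ⟨hfp, hfl, hsu⟩ := hC i (by omega) (by push_cast; omega)
        obtain ⟨e⟩ := hXi i h₁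
        refine ⟨(SheafOfModules.isFinitePresentation (R := X.ringCatSheaf)).prop_of_iso e.symm hfp,
          fun x => GrFlat5.isFlatOverAt_of_iso f e.symm x (hfl x), ?_⟩
        rw [QCoh.support_iso e (QCoh.isQCoh_of_isFP
          ((SheafOfModules.isFinitePresentation (R := X.ringCatSheaf)).prop_of_iso e.symm hfp))]
        exact hsu
    · haveI : σ.X₃.IsStrictlyLE a := by
        have := isStrictlyLE_sigmaSES_X₃ C (a + 1)
        rwa [show a + 1 - 1 = a by omega] at this
      haveI : σ.X₃.IsStrictlyGE a := (CochainComplex.isStrictlyGE_iff _ _).2 fun i hi =>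
        (hz i (Or.inl hi)).of_iso (nonempty_sigmaSES_X₃_iso C (a + 1) i (by omega)).some.symm
      obtain ⟨M, ⟨e⟩⟩ := CochainComplex.exists_iso_single σ.X₃ a
      obtain ⟨c⟩ := nonempty_sigmaSES_X₃_iso C (a + 1) a (by omega)
      let eM : C.X a ≅ M := c ≪≫ (HomologicalComplex.eval _ _ a).mapIso e ≪≫
        HomologicalComplex.singleObjXSelf (ComplexShape.up ℤ) a M
      obtain ⟨hfp, hfl, hsu⟩ := hC a le_rfl (by push_cast; omega)
      refine PushSP.of_iso (((shiftFunctor (DCoh.D X) (-a)).mapIso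
        ((DerivedCategory.singleFunctor X.Modules 0).mapIso eM)) ≪≫
          ((DerivedCategory.singleFunctors X.Modules).shiftIso (-a) a 0 (by omega)).app M ≪≫
          (DerivedCategory.singleFunctorIsoCompQ X.Modules a).app M ≪≫ DerivedCategory.Q.mapIso e.symm)
        ((PushSP.shift b (-a) _).2 ?_)
      obtain ⟨eT⟩ := nonempty_ltensor_single hP (C.X a)
      exact isPerfect_of_iso ((DCoh.Rpush f).mapIso eT.symm)
        (isPerfect_rpush_tensor f (C.X a) hfp hfl hsu hperf)

/-- `Rf_*(E ⊗^L G)` is perfect for a bounded complex `G` and perfect `E`. -/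
theorem isPerfect_rpush_ltensor_bounded (f : X ⟶ S) [LocallyOfFinitePresentation f] [QuasiCompact f]
    [QuasiSeparated f] (G : CochainComplex X.Modules ℤ) (lo hi : ℤ) (hGb : ∀ i, i < lo ∨ hi < i → IsZero (G.X i))
    (hGfp : ∀ i, CohB1.IsFP (G.X i)) (hGflat : ∀ i, FlatMod.IsFlatOver f (G.X i))
    (hGsupp : ∀ i, ClSub.IsProperOver f (CohB1.support (G.X i)))
    {E : DCoh.D X} (hE : DCoh.IsPerfect E) [CompactSpace X] :
    DCoh.IsPerfect ((DCoh.Rpush f).obj ((DCoh.LTensorCx G).obj E)) := by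
  obtain ⟨_, b, -, hb⟩ := exists_bounds_of_isPerfect hE
  haveI := hb
  let P := repK E
  have hP : DCoh.IsKFlat P := isKFlat_repK E
  have hPp : DCoh.IsPerfect (DCoh.toD X P) := isPerfect_of_iso (repKIso E).symm hE
  haveI : (DCoh.toD X P).IsLE b := DerivedCategory.TStructure.t.isLE_of_iso (repKIso E).symm b
  obtain ⟨c⟩ := PushAmp.nonempty_ltensor_comm G P
  refine isPerfect_of_iso ((DCoh.Rpush f).mapIso (c.symm ≪≫ (DCoh.LTensorCx G).mapIso (repKIso E))) ?_
  exact pushSP_bounded f hP hPp b (hi + 1 - lo).toNat lo G (fun i h => hGb i (by omega))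
    fun i _ _ => ⟨hGfp i, hGflat i, hGsupp i⟩

/-- The same without finiteness of the base. -/
theorem isPerfect_rpush_ltensor_bounded_global (f : X ⟶ S) [LocallyOfFinitePresentation f] [QuasiCompact f]
    [QuasiSeparated f] (G : CochainComplex X.Modules ℤ) (lo hi : ℤ) (hGb : ∀ i, i < lo ∨ hi < i → IsZero (G.X i))
    (hGfp : ∀ i, CohB1.IsFP (G.X i)) (hGflat : ∀ i, FlatMod.IsFlatOver f (G.X i))
    (hGsupp : ∀ i, ClSub.IsProperOver f (CohB1.support (G.X i))) {E : DCoh.D X} (hE : DCoh.IsPerfect E) :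
    DCoh.IsPerfect ((DCoh.Rpush f).obj ((DCoh.LTensorCx G).obj E)) := by
  refine (isPerfect_iff _).2 (LocSP.of_local fun s => ?_)
  obtain ⟨_, ⟨(U : S.Opens), hU, rfl⟩, hsU, -⟩ :=
    S.isBasis_affineOpens.exists_subset_of_mem_open (Set.mem_univ s) isOpen_univ
  refine ⟨_, U.ι, inferInstance, ⟨⟨s, hsU⟩, rfl⟩, ?_⟩
  haveI : IsAffine (U : Scheme.{u}) := hU
  haveI : LocallyOfFinitePresentation (f ∣_ U) :=
    IsZariskiLocalAtTarget.restrict ‹LocallyOfFinitePresentation f› U
  let j := (f ⁻¹ᵁ U).ι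
  haveI : CompactSpace (f ⁻¹ᵁ U).toScheme := QuasiCompact.compactSpace_of_compactSpace (f ∣_ U)
  obtain ⟨e⟩ := nonempty_rpush_restrictD_iso f U
  obtain ⟨eT⟩ := PushAmp.nonempty_rho_ltensor j G E ((rCx j).obj G) ((rhoQ j).app G).symm
  refine (isPerfect_iff _).1 (isPerfect_of_iso ((DCoh.Rpush (f ∣_ U)).mapIso eT.symm ≪≫ (e.app _).symm) ?_)
  refine isPerfect_rpush_ltensor_bounded (f ∣_ U) ((rCx j).obj G) lo hi
    (fun i hi => (Scheme.Modules.restrictFunctor j).map_isZero (hGb i hi))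
    (fun i => isFP_restrictFunctor j (hGfp i)) (fun i => PushAmp.isFlatOver_morphismRestrict f U (hGflat i))
    (fun i => ?_) (isPerfect_rho j hE)
  have hq := QCoh.isQCoh_of_isFP (hGfp i)
  show ClSub.IsProperOver (f ∣_ U) (CohB1.support ((Scheme.Modules.restrictFunctor j).obj (G.X i)))
  rw [QCoh.support_iso ((Scheme.Modules.restrictFunctorIsoPullback j).app (G.X i)) (QCoh.isQCoh_restrict j hq),
    QCoh.support_pullback j hq (QCoh.isFT_of_isFP (hGfp i))]
  exact QCoh.IsProperOver.baseChange (isPullback_morphismRestrict f U).flip (hGsupp i)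

end Groth.Agent.GBC
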